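import Cfsg.Agent.H16.LA27
import Cfsg.Agent.H14.Sp2
import Cfsg.Agent.H22.SpSu

/-! Groups covered by the conjugates of two proper subgroups: generalities and linear groups. -/

set_option autoImplicit false
set_option linter.unusedSectionVars false
set_option linter.unusedSimpArgs false
set_option linter.unusedVariables false

namespace H16.CV

open Module Polynomial
open scoped commutatorElement

/-- covered by the conjugates of two proper subgroups -/
def Cov (G : Type*) [Group G] : Prop :=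
  ∃ H K : Subgroup G, H ≠ ⊤ ∧ K ≠ ⊤ ∧ ∀ g : G, ∃ x : G, x * g * x⁻¹ ∈ H ∨ x * g * x⁻¹ ∈ K

theorem map_ne_top {G : Type*} [Group G] (hp : commutator G = ⊤) {H : Subgroup G} (h : H ≠ ⊤) :
    H.map (QuotientGroup.mk' (Subgroup.center G)) ≠ ⊤ := fun e => h <| by
  have k : ∀ a : G, ∃ b ∈ H, ∃ z ∈ Subgroup.center G, a = b * z := fun a => by
    obtain ⟨b, hb, e1⟩ := (Subgroup.eq_top_iff' _).1 e (a : G ⧸ Subgroup.center G)
    exact ⟨b, hb, _, QuotientGroup.eq.1 e1, by group⟩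
  have c1 : ∀ (a b : G), ∀ z ∈ Subgroup.center G, ⁅a * z, b⁆ = ⁅a, b⁆ := fun a b z hz => by
    rw [commutatorElement_def, commutatorElement_def, mul_assoc a z b,
      ← Subgroup.mem_center_iff.1 hz b]; group
  rw [eq_top_iff, ← hp, commutator_def, Subgroup.commutator_le]
  intro a _ b _
  obtain ⟨a, ha, z, hz, rfl⟩ := k a
  obtain ⟨b, hb, z', hz', rfl⟩ := k b
  rw [c1 _ _ z hz, ← commutatorElement_inv, c1 _ _ z' hz', commutatorElement_def]
  exact H.inv_mem (H.mul_mem (H.mul_mem (H.mul_mem hb ha) (H.inv_mem hb)) (H.inv_mem ha))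

theorem Cov.quot {G : Type*} [Group G] (h : Cov G) (hp : commutator G = ⊤) :
    Cov (G ⧸ Subgroup.center G) := by
  obtain ⟨H, K, h1, h2, h3⟩ := h
  refine ⟨_, _, map_ne_top hp h1, map_ne_top hp h2, fun g => ?_⟩
  obtain ⟨g, rfl⟩ := QuotientGroup.mk_surjective g
  obtain ⟨x, hx⟩ := h3 g
  exact ⟨x, hx.imp (fun h => ⟨_, h, rfl⟩) fun h => ⟨_, h, rfl⟩⟩

universe u
variable {F : Type u} {V : Type*} [Field F] [AddCommGroup V] [Module F V] {C : End F V → Prop}

/-- a family of mutually conjugate proper stabilizers -/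
structure Fm (C : End F V → Prop) (P : Submonoid (End F V) → Prop) : Prop where
  ne : ∀ M, P M → ∃ f, C f ∧ f ∉ M
  cj : ∀ M M', P M → P M' → ∃ x, C x ∧ ∀ f ∈ M, ∀ f', f' * x = x * f → f' ∈ M'

theorem cover {G : Type*} [Group G] [Finite G] (ρ : G →* End F V) (hρ : ∀ g, C (ρ g))
    (hs : ∀ f, C f → ∃ g, ρ g = f) {P Q : Submonoid (End F V) → Prop} (h1 : Fm C P) (h2 : Fm C Q)
    (h : ∀ f, C f → ∃ M, (P M ∨ Q M) ∧ f ∈ M) : Cov G := by
  let sg : Submonoid (End F V) → Subgroup G := fun M =>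
    { M.comap ρ with
      inv_mem' := fun {g} hg => by
        have : g⁻¹ = g ^ (orderOf g - 1) := by
          rw [eq_comm, ← mul_eq_one_iff_eq_inv, ← pow_succ, Nat.sub_add_cancel (orderOf_pos g),
            pow_orderOf_eq_one]
        rw [this]; exact (M.comap ρ).pow_mem hg _ }
  have ne : ∀ M, (∃ f, C f ∧ f ∉ M) → sg M ≠ ⊤ := fun M ⟨f, hf, hM⟩ e => by
    obtain ⟨g, rfl⟩ := hs f hf
    exact hM ((Subgroup.eq_top_iff' _).1 e g)
  obtain ⟨M₀, hM₀, -⟩ := h _ (hρ 1)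
  have h0 := ne M₀ (hM₀.elim (h1.ne _) (h2.ne _))
  have key : ∀ P, Fm C P → ∃ H : Subgroup G, H ≠ ⊤ ∧ ∀ g M, P M → ρ g ∈ M → ∃ x, x * g * x⁻¹ ∈ H :=
    fun P hP => by
      by_cases e : ∃ M, P M
      · obtain ⟨M', hM'⟩ := e
        refine ⟨_, ne M' (hP.ne _ hM'), fun g M hM hg => ?_⟩
        obtain ⟨x, hx, k⟩ := hP.cj M M' hM hM'
        obtain ⟨x, rfl⟩ := hs x hx
        exact ⟨x, k _ hg (ρ _) (by rw [← map_mul, ← map_mul, inv_mul_cancel_right])⟩
      · exact ⟨_, h0, fun g M hM => absurd ⟨M, hM⟩ e⟩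
  obtain ⟨H, a1, a2⟩ := key P h1
  obtain ⟨K, b1, b2⟩ := key Q h2
  refine ⟨H, K, a1, b1, fun g => ?_⟩
  obtain ⟨M, hM | hM, hg⟩ := h _ (hρ g)
  · exact (a2 g M hM hg).imp fun _ => Or.inl
  · exact (b2 g M hM hg).imp fun _ => Or.inr

/-- stabilizer of a subspace -/
def stab (W : Submodule F V) : Submonoid (End F V) where
  carrier := {f | ∀ v ∈ W, f v ∈ W}
  mul_mem' ha hb v hv := ha _ (hb v hv)
  one_mem' _ h := h

theorem fm_sub {P : Submodule F V → Prop} (tr : ∀ W W', P W → P W' → ∃ x, C x ∧ W.map x = W')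
    (ne : ∀ W, P W → ∃ W', P W' ∧ ¬ W' ≤ W) : Fm C fun M => ∃ W, P W ∧ M = stab W := by
  refine ⟨?_, ?_⟩
  · rintro _ ⟨W, hW, rfl⟩
    obtain ⟨W', h1, h2⟩ := ne W hW
    obtain ⟨x, hx, rfl⟩ := tr W W' hW h1
    exact ⟨x, hx, fun h => h2 (by rintro _ ⟨v, hv, rfl⟩; exact h v hv)⟩
  · rintro _ _ ⟨W, hW, rfl⟩ ⟨W', hW', rfl⟩
    obtain ⟨x, hx, rfl⟩ := tr W W' hW hW'
    refine ⟨x, hx, fun f hf f' e => ?_⟩
    rintro _ ⟨v, hv, rfl⟩
    exact ⟨f v, hf v hv, (LinearMap.congr_fun e v).symm⟩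

theorem mem_stab_span {s : Set V} {f : End F V} (h : ∀ v ∈ s, f v ∈ Submodule.span F s) :
    f ∈ stab (Submodule.span F s) := fun v hv =>
  (Submodule.span_le (p := (Submodule.span F s).comap f)).2 h hv

/-- maps shifting an endomorphism by a scalar -/
def nrm (A : AddSubmonoid F) (θ : End F V) : Submonoid (End F V) where
  carrier := {f | ∃ c ∈ A, f * θ = (θ + c • 1) * f}
  mul_mem' := by
    rintro a b ⟨c, hc, h⟩ ⟨d, hd, h'⟩
    refine ⟨c + d, A.add_mem hc hd, ?_⟩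
    rw [mul_assoc, h', ← mul_assoc, mul_add, h]
    simp only [add_mul, smul_mul_assoc, mul_smul_comm, one_mul, mul_one, add_smul, mul_assoc]
    abel
  one_mem' := ⟨0, A.zero_mem, by simp⟩

theorem notMem_nrm [FiniteDimensional F V] {A : AddSubmonoid F} {θ f : End F V}
    (hθ : ∀ (c : F) v, θ v = c • v → v = 0) (hA : A = ⊥ ∨ 3 ≤ finrank F V) {φ : Dual F V} {u w : V}
    (hu : u ≠ 0) (hw : φ w ≠ 0) (hf : ∀ x, f x = x + φ x • u) : f ∉ nrm A θ := by
  rintro ⟨c, hc, h⟩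
  have h1 : ∀ x, φ (θ x) • u = φ x • θ u + c • (x + φ x • u) := fun x => by
    have := LinearMap.congr_fun h x
    simp only [Module.End.mul_apply, hf, LinearMap.add_apply, map_add, map_smul,
      LinearMap.smul_apply, Module.End.one_apply] at this
    linear_combination (norm := module) this
  have h2 : c = 0 := by
    rcases hA with rfl | hA
    · exact hc
    obtain ⟨x, hx, h0⟩ := Submodule.exists_mem_ne_zero_of_ne_bot
      (LinearMap.ker_ne_bot_of_finrank_lt (f := φ.prod (φ ∘ₗ θ)) (by simp; omega))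
    have a1 : φ x = 0 := congrArg Prod.fst hx
    have a2 : φ (θ x) = 0 := congrArg Prod.snd hx
    simpa [a1, a2, h0] using (h1 x).symm
  refine hu (hθ (φ (θ w) / φ w) u ?_)
  rw [div_eq_inv_mul, mul_smul, h1 w, h2, zero_smul, add_zero, inv_smul_smul₀ hw]

theorem fm_nrm {A : AddSubmonoid F} {P : End F V → Prop}
    (tr : ∀ θ θ', P θ → P θ' → ∃ x, C x ∧ IsUnit x ∧ x * θ = θ' * x)
    (ne : ∀ θ, P θ → ∃ f, C f ∧ f ∉ nrm A θ) : Fm C fun M => ∃ θ, P θ ∧ M = nrm A θ := by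
  refine ⟨by rintro _ ⟨θ, h, rfl⟩; exact ne θ h, ?_⟩
  rintro _ _ ⟨θ, h, rfl⟩ ⟨θ', h', rfl⟩
  obtain ⟨x, hx, hu, e⟩ := tr θ θ' h h'
  refine ⟨x, hx, fun f ⟨c, hc, hf⟩ f' e' => ⟨c, hc, hu.mul_right_cancel ?_⟩⟩
  rw [mul_assoc, ← e, ← mul_assoc, e', mul_assoc, hf, ← mul_assoc, mul_add, e, mul_assoc, e']
  simp only [add_mul, smul_mul_assoc, mul_smul_comm, one_mul, mul_one, mul_assoc]

/-- the Artin-Schreier type polynomial -/
noncomputable def asp (k : ℕ) (e : F) : F[X] := X ^ k - X - Polynomial.C e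

theorem aeval_asp {A : Type*} [Ring A] [Algebra F A] (k : ℕ) (e : F) (a : A) :
    aeval a (asp k e) = a ^ k - a - e • 1 := by simp [asp, Algebra.algebraMap_eq_smul_one]

theorem asp_deg {k : ℕ} (hk : 2 ≤ k) (e : F) : (asp k e).Monic ∧ (asp k e).natDegree = k := by
  have : (X + Polynomial.C e : F[X]).degree < k := by
    rw [degree_X_add_C]; exact_mod_cast hk
  rw [asp, sub_sub]
  exact ⟨monic_X_pow_sub this, by
    rw [natDegree_sub_eq_left_of_natDegree_lt] <;> simp; omega⟩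

theorem asp_irred {k : ℕ} (hk : 2 ≤ k) (hk' : k ≤ 3) {e : F} (h : ∀ x, x ^ k - x ≠ e) :
    Irreducible (asp k e) :=
  irreducible_of_degree_le_three_of_not_isRoot (by rw [(asp_deg hk e).2, Finset.mem_Icc]; omega)
    fun x hx => h x (by simpa [asp, sub_eq_zero] using hx)

theorem exists_asp [Finite F] {k : ℕ} (hk : 2 ≤ k) : ∃ e : F, ∀ x, x ^ k - x ≠ e := by
  by_contra hc
  push Not at hc
  have := Finite.injective_iff_surjective.2 hc (a₁ := 0) (a₂ := 1) (by simp; omega)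
  simp at this

theorem no_eig {k : ℕ} {e : F} (h : ∀ x, x ^ k - x ≠ e) {θ : End F V} (hθ : θ ^ k - θ - e • 1 = 0)
    (c : F) (v : V) (hv : θ v = c • v) : v = 0 := by
  have h1 : ∀ j : ℕ, (θ ^ j) v = c ^ j • v := fun j => by
    induction j with
    | zero => simp
    | succ j ih => rw [pow_succ, Module.End.mul_apply, hv, map_smul, ih, smul_smul, pow_succ']
  have := LinearMap.congr_fun hθ v
  simp only [LinearMap.sub_apply, h1, hv, LinearMap.smul_apply, Module.End.one_apply, ← sub_smul,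
    LinearMap.zero_apply, smul_eq_zero] at this
  exact this.resolve_left (sub_ne_zero.2 (h c))

theorem exists_root [Finite F] {p r : F[X]} (hp : Irreducible p) (hr : Irreducible r)
    (h : p.natDegree ∣ r.natDegree) : ∃ s : F[X], r ∣ p.comp s := by
  have := Fact.mk hp
  have := Fact.mk hr
  have := finite_adj hr.ne_zero
  have : Finite (AdjoinRoot r) := finite_of_fd (F := F)
  obtain ⟨φ⟩ := FiniteField.nonempty_algHom_of_finrank_dvd (F := F) (K := AdjoinRoot p)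
    (L := AdjoinRoot r) (by rwa [finrank_adj, finrank_adj])
  obtain ⟨s, hs⟩ := AdjoinRoot.mk_surjective (φ (AdjoinRoot.root p))
  exact ⟨s, dvd_comp_iff_aeval.2 (by rw [hs, aeval_algHom_apply]; simp)⟩

theorem exists_root_pow [Finite F] {p r : F[X]} (hp : Irreducible p) (hr : Irreducible r)
    (h : p.natDegree ∣ r.natDegree) (e : ℕ) : ∃ a : AdjoinRoot (r ^ e), aeval a p = 0 := by
  obtain ⟨s, hs⟩ := exists_root hp hr h
  have h1 : IsNilpotent (aeval (AdjoinRoot.mk (r ^ e) s) p) := ⟨e, by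
    rw [← map_pow, ← dvd_comp_iff_aeval, pow_comp]; exact pow_dvd_pow_of_dvd hs e⟩
  obtain ⟨a, b, hab⟩ := PerfectField.separable_of_irreducible hp
  have h2 := congrArg (aeval (AdjoinRoot.mk (r ^ e) s)) hab
  rw [map_add, map_mul, map_mul, map_one, ← eq_sub_iff_add_eq'] at h2
  obtain ⟨a, ha, -⟩ := existsUnique_nilpotent_sub_and_aeval_eq_zero h1
    (isUnit_of_mul_isUnit_right (h2 ▸ ((Commute.all _ _).isNilpotent_mul_left h1).isUnit_one_sub))
  exact ⟨a, ha.2⟩

variable [FiniteDimensional F V]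

theorem exists_comm_root {g : End F V} {p : F[X]}
    (h : ∀ q ∈ ed g, ∃ a : AdjoinRoot q, aeval a p = 0) : ∃ θ, θ * g = g * θ ∧ aeval θ p = 0 := by
  obtain ⟨k, q, -, h1, h2⟩ := exists_mdl_ed g
  choose a ha using fun i => h (q i) (by rw [h1]; simp)
  obtain ⟨θ, h3, h4⟩ := exists_comm_of_sim h2 (k := Algebra.lmul F _ a) (by
    rw [mdl, ← map_mul, ← map_mul, mul_comm])
  refine ⟨θ, h3, (h4.aeval p).symm.eq_zero ?_⟩
  rw [aeval_algHom_apply, show aeval a p = 0 from funext fun i => by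
    exact (aeval_algHom_apply (Pi.evalAlgHom F _ i) a p).symm.trans (ha i), map_zero]

theorem two_le_deg {g : End F V} (h : ∀ (c : F) v, g v = c • v → v = 0) {p : F[X]} (hm : p.Monic)
    (hp : Irreducible p) {e : ℕ} (he : 1 ≤ e) (hq : p ^ e ∈ ed g) : 2 ≤ p.natDegree := by
  by_contra h1
  have h2 : p.natDegree = 1 := by have := hp.natDegree_pos; omega
  obtain ⟨a, rfl⟩ : ∃ a, p = X + Polynomial.C a := ⟨_, hm.eq_X_add_C h2⟩
  have : IsUnit (aeval g (X + Polynomial.C a)) := by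
    rw [LinearMap.isUnit_iff_ker_eq_bot, LinearMap.ker_eq_bot']
    intro v hv
    refine h (-a) v ?_
    simpa [Algebra.algebraMap_eq_smul_one, add_eq_zero_iff_eq_neg] using hv
  exact hp.not_isUnit (((isUnit_aeval_iff_ed _ _).1 this _ hq).isUnit_of_dvd (dvd_pow_self _ (by omega)))

theorem deg_cases {g : End F V} (h : ∀ (c : F) v, g v = c • v → v = 0) {q : F[X]} (hq : q ∈ ed g) :
    ed g = {q} ∧ q.natDegree = finrank F V ∨ q.natDegree + 2 ≤ finrank F V := by
  obtain ⟨t, ht⟩ := Multiset.exists_cons_of_mem hq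
  have h1 := sum_natDegree_ed g
  rw [ht, Multiset.map_cons, Multiset.sum_cons] at h1
  by_cases h0 : t = 0
  · left; subst h0; exact ⟨ht, by simpa using h1⟩
  obtain ⟨r, hr⟩ := Multiset.exists_mem_of_ne_zero h0
  have hr' : r ∈ ed g := by rw [ht]; exact Multiset.mem_cons_of_mem hr
  have h2 := Multiset.le_sum_of_mem (Multiset.mem_map_of_mem natDegree hr)
  obtain ⟨p, e, a1, a2, a3, rfl⟩ := ed_isPP hr'
  have := two_le_deg h a1 a2 a3 hr'
  rw [a1.natDegree_pow] at h2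
  right; nlinarith

theorem sim_of_irred {θ θ' : End F V} {p : F[X]} (hm : p.Monic) (hp : Irreducible p)
    (h : aeval θ p = 0) (h' : aeval θ' p = 0) : Sim θ θ' ∧ ∀ q ∈ ed θ, q = p := by
  have k : ∀ θ : End F V, aeval θ p = 0 → ∀ q ∈ ed θ, q = p := fun θ h q hq => by
    obtain ⟨e, a1, a2, rfl⟩ := (ed_isPP hq).eq_pow_of_dvd hm hp (k := 1)
      (by simpa using (aeval_eq_zero_iff_ed θ p).1 h q hq)
    rw [le_antisymm a2 a1, pow_one]
  refine ⟨sim_of_ed_eq ?_, k θ h⟩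
  have e1 := Multiset.eq_replicate_card.2 (k θ h)
  have e2 := Multiset.eq_replicate_card.2 (k θ' h')
  have s1 := sum_natDegree_ed θ
  have s2 := sum_natDegree_ed θ'
  rw [e1] at s1; rw [e2, ← s1] at s2
  simp only [Multiset.map_replicate, Multiset.sum_replicate, smul_eq_mul] at s2
  rw [e1, e2, Nat.eq_of_mul_eq_mul_right hp.natDegree_pos s2]

theorem cv_det_one {x θ θ' : End F V} (e : x * θ = θ' * x) {y : End F V} (hy : y * θ = θ * y)
    (hd : LinearMap.det y = (LinearMap.det x)⁻¹) (hx : LinearMap.det x ≠ 0) :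
    LinearMap.det (x * y) = 1 ∧ IsUnit (x * y) ∧ x * y * θ = θ' * (x * y) := by
  have : LinearMap.det (x * y) = 1 := by rw [map_mul, hd, mul_inv_cancel₀ hx]
  exact ⟨this, (LinearMap.isUnit_iff_isUnit_det _).2 (by simp [this]), by
    rw [mul_assoc, hy, ← mul_assoc, e, mul_assoc]⟩

/-- matrices as endomorphisms -/
def lin (ι : Type) [Fintype ι] [DecidableEq ι] (F : Type*) [Field F] : Matrix ι ι F →* End F (ι → F) where
  toFun := Matrix.toLin'
  map_one' := Matrix.toLin'_one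
  map_mul' := Matrix.toLin'_mul

theorem cov_SL [Fintype F] {n k : ℕ} (h : n = 2 ∧ k = 2 ∨ n = 3 ∧ k = 3 ∨ n = 4 ∧ k = 2) :
    Cov (Matrix.SpecialLinearGroup (Fin n) F) := by
  classical
  obtain ⟨e, he⟩ := exists_asp (F := F) (k := k) (by omega)
  have hp := asp_irred (by omega) (by omega) he
  obtain ⟨hm, hd⟩ := asp_deg (k := k) (by omega) e
  have hn : finrank F (Fin n → F) = n := by simp
  have tv : ∀ v w : Fin n → F, v ≠ 0 → w ∉ F ∙ v → ∃ φ : Dual F (Fin n → F), φ v = 0 ∧ φ w = 1 :=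
    fun v w hv hw => by
      obtain ⟨φ, h1, h2⟩ := Submodule.exists_dual_map_eq_bot_of_notMem hw inferInstance
      refine ⟨(φ w)⁻¹ • φ, ?_, by simp [h1]⟩
      have : φ v = 0 := (Submodule.eq_bot_iff _).1 h2 _ ⟨v, Submodule.mem_span_singleton_self v, rfl⟩
      simp [this]
  have ex : ∀ v : Fin n → F, ∃ w, w ∉ F ∙ v := fun v => by
    by_contra hc
    push Not at hc
    have := finrank_span_le_card (R := F) {v}
    rw [(Submodule.eq_top_iff'.2 hc), finrank_top, hn] at this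
    simp at this; omega
  refine cover (C := fun f => LinearMap.det f = 1)
    ((lin (Fin n) F).comp Matrix.SpecialLinearGroup.coeMonoidHom)
    (fun g => (LinearMap.det_toLin' _).trans g.2)
    (fun f hf => ⟨⟨LinearMap.toMatrix' f, by simpa using hf⟩, Matrix.toLin'_toMatrix' f⟩)
    (fm_sub (P := fun W => ∃ v ≠ 0, W = F ∙ v) ?_ ?_)
    (fm_nrm (A := ⊥) (P := fun θ => aeval θ (asp k e) = 0) (fun θ θ' h1 h2 => ?_) fun θ h1 => ?_)
    fun f hf => ?_
  · rintro _ _ ⟨v, hv, rfl⟩ ⟨w, hw, rfl⟩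
    by_cases h1 : v ∈ F ∙ w
    · refine ⟨1, by simp, ?_⟩
      obtain ⟨c, rfl⟩ := Submodule.mem_span_singleton.1 h1
      simp [Submodule.span_singleton_smul_eq (IsUnit.mk0 c (left_ne_zero_of_smul hv)), End.one_eq_id]
    have h2 : v ∉ F ∙ (w - v) := fun h2 => by
      obtain ⟨c, hc⟩ := Submodule.mem_span_singleton.1 h2
      by_cases h3 : 1 + c = 0
      · exact hw ((smul_eq_zero.1 (show c • w = 0 by
          linear_combination (norm := module) hc + h3 • v)).resolve_left fun e => by simp [e] at h3)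
      · exact h1 (Submodule.mem_span_singleton.2 ⟨c / (1 + c), by
          rw [div_eq_inv_mul, mul_smul, inv_smul_eq_iff₀ h3]
          linear_combination (norm := module) hc⟩)
    obtain ⟨φ, a1, a2⟩ := tv (w - v) v (fun e => h1 (by
      rw [← sub_eq_zero.1 e]; exact Submodule.mem_span_singleton_self _)) h2
    exact ⟨LinearMap.transvection φ (w - v), by simp [a1], by
      simp [Submodule.map_span, LinearMap.transvection.apply, a2]⟩
  · rintro _ ⟨v, hv, rfl⟩
    obtain ⟨w, hw⟩ := ex v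
    exact ⟨_, ⟨w, fun e => hw (by simp [e]), rfl⟩, fun h => hw (h (Submodule.mem_span_singleton_self w))⟩
  · obtain ⟨⟨x, hx⟩, h3⟩ := sim_of_irred hm hp h1 h2
    obtain ⟨q, hq⟩ := Multiset.exists_mem_of_ne_zero ((ed_eq_zero_iff θ).not.2 (by omega))
    obtain ⟨y, h4, h5⟩ := exists_comm_det_of_irred hq (h3 q hq ▸ hp) (LinearMap.det x.toLinearMap)⁻¹
    exact ⟨_, cv_det_one (LinearMap.ext hx) h4 h5 x.isUnit_det'.ne_zero⟩
  · have : Nontrivial (Fin n → F) := Module.nontrivial_of_finrank_pos (R := F) (by omega)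
    obtain ⟨v, hv⟩ := exists_ne (0 : Fin n → F)
    obtain ⟨w, hw⟩ := ex v
    obtain ⟨φ, a1, a2⟩ := tv v w hv hw
    exact ⟨LinearMap.transvection φ v, by simp [a1], notMem_nrm (no_eig he (by rwa [← aeval_asp]))
      (Or.inl rfl) hv (a2 ▸ one_ne_zero : φ w ≠ 0) fun _ => rfl⟩
  by_cases h1 : ∀ (c : F) v, f v = c • v → v = 0
  · obtain ⟨θ, a1, a2⟩ := exists_comm_root (g := f) (p := asp k e) fun q hq => by
      obtain ⟨p, j, b1, b2, b3, rfl⟩ := ed_isPP hq
      refine exists_root_pow hp b2 ?_ j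
      have c1 := two_le_deg h1 b1 b2 b3 hq
      have c2 := deg_cases h1 hq
      rw [b1.natDegree_pow, hn] at c2
      have c3 : p.natDegree ≤ j * p.natDegree := Nat.le_mul_of_pos_left _ b3
      have c4 : j * 2 ≤ j * p.natDegree := Nat.mul_le_mul_left _ c1
      have c5 : j ≤ 2 := by omega
      rw [hd]
      rcases h with ⟨rfl, rfl⟩ | ⟨rfl, rfl⟩ | ⟨rfl, rfl⟩ <;> interval_cases j <;> omega
    exact ⟨_, Or.inr ⟨θ, a2, rfl⟩, 0, rfl, by simp [a1]⟩
  · push Not at h1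
    obtain ⟨c, v, a1, a2⟩ := h1
    exact ⟨_, Or.inl ⟨_, ⟨v, a2, rfl⟩, rfl⟩, mem_stab_span (by
      rintro _ rfl; exact Submodule.mem_span_singleton.2 ⟨c, a1.symm⟩)⟩

end H16.CV
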