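import Cfsg.Agent.H7.Bh
import Cfsg.Agent.H16.Gq2

/-! Bridge from the shape `2^(1+12).3.M22.2` to the Janko-four type. -/

set_option autoImplicit false
set_option linter.unusedSectionVars false
open Subgroup H7B Cfsg Cfsg.Spor

namespace H16.Gl4

theorem es_equiv {A B : Type*} [Group A] [Group B] (e : A ≃* B) (h : IsExtraspecial 2 A) :
    IsExtraspecial 2 B := by
  obtain ⟨⟨h1, h2, h3⟩, h4⟩ := h
  have hc : (center B).comap e.toMonoidHom = center A := by
    ext x
    simp only [mem_comap, mem_center_iff]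
    exact ⟨fun h g => e.injective (by rw [map_mul, map_mul]; exact h (e g)), fun h g => by
      obtain ⟨g, rfl⟩ := e.surjective g
      change e g * e x = e x * e g
      rw [← map_mul, ← map_mul, h]⟩
  have hm : (center A).map e.toMonoidHom = center B := by
    rw [← hc, map_comap_eq_self_of_surjective e.surjective]
  refine ⟨⟨h1.of_equiv e, le_antisymm ?_ ?_, ?_⟩, ?_⟩
  · intro x hx
    have := frattini_le_comap_frattini_of_surjective (φ := e.symm.toMonoidHom) e.symm.surjective hx
    rw [h2] at this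
    rw [← hm]
    exact ⟨_, this, e.apply_symm_apply x⟩
  · rw [← hm, ← h2, map_le_iff_le_comap]
    exact frattini_le_comap_frattini_of_surjective e.surjective
  · rw [← hm, ← h3, commutator_def, commutator_def, map_commutator, map_top_of_surjective _ e.surjective]
  · rw [← hm, card_map_of_injective e.injective, h4]

variable {C : Type*} [Group C] [Finite C] {Q N M : Subgroup C} [N.Normal]

theorem fin22 : Finite M22 := inferInstance

theorem b2 [IsSimpleGroup M22] (hna : ¬ IsMulCommutative M22)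
    (hA : Nat.card (MulAut M22) = 2 * Nat.card M22) (h : St Q N M) :
    Nonempty (C ⧸ N ≃* MulAut M22) :=
  have := h.nM
  H16.Gq.bq hna hA N M h.hNM h.hM h.hout h.hM22

theorem b1 [IsSimpleGroup M22] (hna : ¬ IsMulCommutative M22)
    (hA : Nat.card (MulAut M22) = 2 * Nat.card M22) (h : St Q N M) : pCore 2 C = Q := by
  have := h.nQ
  have : Fact (Nat.Prime 2) := ⟨Nat.prime_two⟩
  have q2 : IsPGroup 2 Q := h.hQ.1.1
  refine le_antisymm (sSup_le fun K hK => ?_) (le_sSup ⟨h.nQ, q2⟩)
  obtain ⟨e⟩ := b2 hna hA h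
  have := hK.1
  let f : C →* MulAut M22 := e.toMonoidHom.comp (QuotientGroup.mk' N)
  have fs : Function.Surjective f := e.surjective.comp (QuotientGroup.mk'_surjective N)
  have h1 := H16.Gq.aq hna (K.map f) (Normal.map hK.1 f fs) (hK.2.map f)
  have KN : K ≤ N := fun x hx => by
    have h2 : f x = 1 := mem_bot.1 (h1.le ⟨x, hx, rfl⟩)
    exact (QuotientGroup.eq_one_iff x).1 ((map_eq_one_iff _ e.injective).1 h2)
  have rQ : Q.relIndex N = 3 := by
    have := (Q.subgroupOf N).card_mul_index
    rw [Nat.card_congr (subgroupOfEquivOfLe h.hQN).toEquiv, h.hN, mul_comm] at this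
    exact Nat.eq_of_mul_eq_mul_right Nat.card_pos this
  have h3 := relIndex_mul_relIndex Q (K ⊔ Q) N le_sup_right (sup_le KN h.hQN)
  rw [rQ] at h3
  obtain ⟨n, hn⟩ := (hK.2.to_sup_of_normal_right q2).index (Q.subgroupOf (K ⊔ Q))
  rcases (Nat.dvd_prime Nat.prime_three).1 (Dvd.intro _ h3) with h4 | h4
  · exact le_sup_left.trans (relIndex_eq_one.1 h4)
  · rw [relIndex, hn] at h4
    rcases n with _ | n
    · omega
    · rw [pow_succ] at h4; omega

theorem glue {G : Type*} [Group G] [Finite G] (t : G) (ht : orderOf t = 2)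
    {Q N M : Subgroup (centralizer ({t} : Set G))} [N.Normal] (h : St Q N M)
    (c1 : pCore 2 _ = Q) (e : Nonempty (_ ⧸ N ≃* MulAut M22))
    (P : Subgroup (centralizer ({t} : Set G))) (hP : P ≤ N) (h3 : Nat.card P = 3)
    (d : P ≤ ⁅M ⊓ centralizer (P : Set (centralizer ({t} : Set G))),
      M ⊓ centralizer (P : Set (centralizer ({t} : Set G)))⁆)
    (c2 : Nat.card ↥(Q ⊓ centralizer (P : Set (centralizer ({t} : Set G)))) = 2)
    (c6 : normalizer (P : Set (centralizer ({t} : Set G))) ≠
      centralizer (P : Set (centralizer ({t} : Set G)))) : IsOfJankoFourType G := by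
  have tC : t ∈ centralizer ({t} : Set G) := mem_centralizer_singleton_iff.2 rfl
  have si := (centralizer ({t} : Set G)).subtype_injective
  have eQ : twoCoreOfCentralizer t = Q.map (centralizer ({t} : Set G)).subtype := by
    rw [twoCoreOfCentralizer, c1]
  have cc : ∀ (X : Subgroup (centralizer ({t} : Set G))) (x : centralizer ({t} : Set G)),
      (x : G) ∈ centralizer ((X.map (centralizer ({t} : Set G)).subtype : Subgroup G) : Set G) ↔
        x ∈ centralizer (X : Set (centralizer ({t} : Set G))) := fun X x =>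
    ⟨fun hx y hy => Subtype.ext (hx y ⟨y, hy, rfl⟩), by
      rintro hx _ ⟨y, hy, rfl⟩
      exact congrArg Subtype.val (hx y hy)⟩
  have tc : ∀ X : Subgroup (centralizer ({t} : Set G)), (⟨t, tC⟩ : centralizer ({t} : Set G)) ∈
      centralizer (X : Set (centralizer ({t} : Set G))) := fun X y _ =>
    Subtype.ext (mem_centralizer_singleton_iff.1 y.2)
  have eN : (N.map (centralizer ({t} : Set G)).subtype).subgroupOf (centralizer ({t} : Set G)) = N :=
    comap_map_eq_self_of_injective si N
  have nN : ((N.map (centralizer ({t} : Set G)).subtype).subgroupOf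
    (centralizer ({t} : Set G))).Normal := by rw [eN]; infer_instance
  refine ⟨t, P.map (centralizer ({t} : Set G)).subtype, ht, ?_, ?_, ?_,
    ⟨N.map (centralizer ({t} : Set G)).subtype, ?_, map_subtype_le _, ?_, ?_, ⟨nN, ?_⟩, map_mono hP⟩,
    ?_, ?_, fun e6 => c6 ?_, ?_⟩
  · rw [eQ]; exact es_equiv (Q.equivMapOfInjective _ si) h.hQ
  · rw [eQ, card_subtype, h.hcard]
  · rw [eQ]
    exact fun x hx => ⟨⟨x, hx.1⟩, h.h2c ((cc Q ⟨x, hx.1⟩).1 hx.2), rfl⟩
  · rw [eQ]; exact map_mono h.hQN
  · exact (normal_subgroupOf_iff_le_normalizer (map_subtype_le _)).1 nN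
  · rw [eQ, card_subtype, card_subtype, h.hN]
  · obtain ⟨e⟩ := e
    exact ⟨(QuotientGroup.quotientMulEquivOfEq eN).trans e⟩
  · rw [card_subtype, h3]
  · rw [eQ]
    have t1 : t ∈ Q.map (centralizer ({t} : Set G)).subtype ⊓
        centralizer ((P.map (centralizer ({t} : Set G)).subtype : Subgroup G) : Set G) :=
      mem_inf.2 ⟨mem_map.2 ⟨⟨t, tC⟩, h.h2c (tc Q), rfl⟩, (cc P ⟨t, tC⟩).2 (tc P)⟩
    refine (eq_of_le_of_card_ge (zpowers_le.2 t1) ?_).symm
    rw [Nat.card_zpowers, ht, ← c2, ← card_subtype]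
    refine card_le_of_le ?_
    rintro _ ⟨⟨x, hx, rfl⟩, hx2⟩
    exact ⟨x, ⟨hx, (cc P x).1 hx2⟩, rfl⟩
  · refine le_antisymm (fun x hx => (cc P x).1 (e6.le ⟨x.2, ?_⟩).2) (centralizer_le_normalizer _)
    exact le_normalizer_map _ ⟨x, hx, rfl⟩
  · refine (map_mono d).trans ?_
    rw [map_commutator]
    have : (M ⊓ centralizer (P : Set (centralizer ({t} : Set G)))).map
        (centralizer ({t} : Set G)).subtype ≤ centralizer ({t} : Set G) ⊓
        centralizer ((P.map (centralizer ({t} : Set G)).subtype : Subgroup G) : Set G) := by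
      rintro _ ⟨x, hx, rfl⟩
      exact ⟨x.2, (cc P x).2 hx.2⟩
    exact commutator_mono this this

theorem exP (h : St Q N M) : ∃ P : Subgroup C, P ≤ N ∧ Nat.card P = 3 := by
  have : Fact (Nat.Prime 3) := ⟨Nat.prime_three⟩
  obtain ⟨K, hK⟩ := Sylow.exists_subgroup_card_pow_prime (G := N) 3 (n := 1)
    (by rw [h.hN, pow_one]; exact Dvd.intro _ rfl)
  exact ⟨K.map N.subtype, map_subtype_le _, by rw [card_subtype, hK, pow_one]⟩

end H16.Gl4
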