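import Cfsg.Agent.H16.Gq2
import Cfsg.Agent.H7.Bh

/-! The shape `2^(1+12).3.M22.2` from non-splitting. -/

set_option autoImplicit false
set_option linter.unusedSectionVars false
open Subgroup H16.Gq

namespace H16.Gl7

variable {C : Type*} [Group C] [Finite C] {S : Type*} [Group S] [Finite S] [IsSimpleGroup S]

theorem gq7 (hna : ¬ IsMulCommutative S) (hA : Nat.card (MulAut S) = 2 * Nat.card S)
    (Q N : Subgroup C) [Q.Normal] [N.Normal] (hQN : Q ≤ N) (hN : Nat.card N = 3 * Nat.card Q)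
    (hns : ∀ K : Subgroup C, K ⊓ N = Q → K ⊔ N = ⊤ → False) (e : C ⧸ N ≃* MulAut S) :
    ∃ M : Subgroup C, ∃ _ : M.Normal, N ≤ M ∧ M.index = 2 ∧ M ≤ ⁅M, M⁆ ⊔ Q ∧
      (∀ c : C, (∀ m ∈ M, c * m * c⁻¹ * m⁻¹ ∈ N) → c ∈ M) ∧
      Nonempty ((M ⧸ N.subgroupOf M) ≃* S) ∧ ⁅M, N⁆ ≤ Q := by
  let f : C →* MulAut S := e.toMonoidHom.comp (QuotientGroup.mk' N)
  have fs : Function.Surjective f := e.surjective.comp (QuotientGroup.mk'_surjective N)
  have kf : f.ker = N := by
    ext x
    rw [MonoidHom.mem_ker]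
    change e (x : C ⧸ N) = 1 ↔ _
    rw [map_eq_one_iff _ e.injective, QuotientGroup.eq_one_iff]
  let I : Subgroup (MulAut S) := (MulAut.conj : S →* MulAut S).range
  have cI : Nat.card I = Nat.card S := (Nat.card_congr (MonoidHom.ofInjective (conj_inj hna)).toEquiv).symm
  have iI : I.index = 2 := by
    have := I.card_mul_index
    rw [cI, hA, mul_comm] at this
    exact Nat.eq_of_mul_eq_mul_right Nat.card_pos this
  have pI : ⁅I, I⁆ = I := by
    simp only [I, MonoidHom.range_eq_map]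
    rw [← map_commutator, perf hna]
  let M := I.comap f
  have iM : M.index = 2 := (index_comap_of_surjective I fs).trans iI
  haveI : M.Normal := normal_of_index_eq_two iM
  have NM : N ≤ M := kf.ge.trans (ker_le_comap _ _)
  have mM : M.map f = I := map_comap_eq_self_of_surjective fs I
  have hM : ⁅M, M⁆ ⊔ N = M := by
    rw [← kf, ← comap_map_eq, map_commutator, mM, pI]
  have rQ : Q.relIndex N = 3 := by
    have := (Q.subgroupOf N).card_mul_index
    rw [Nat.card_congr (subgroupOfEquivOfLe hQN).toEquiv, hN, mul_comm] at this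
    exact Nat.eq_of_mul_eq_mul_right Nat.card_pos this
  have key : N ≤ ⁅M, M⁆ ⊔ Q := by
    by_contra hD
    set D := ⁅M, M⁆ ⊔ Q with hDdef
    have DN : D ⊔ N = M := by rw [hDdef, sup_assoc, sup_eq_right.2 hQN, hM]
    have h1 := relIndex_mul_relIndex Q (D ⊓ N) N (le_inf le_sup_right hQN) inf_le_right
    rw [rQ, inf_relIndex_right] at h1
    have h2 : D.relIndex N = 3 := ((Nat.dvd_prime Nat.prime_three).1 (Dvd.intro_left _ h1)).resolve_left
      fun e => hD (relIndex_eq_one.1 e)
    have h3 : D ⊓ N ≤ Q := relIndex_eq_one.1 (by rw [h2] at h1; omega)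
    have h4 : D.index = 6 := by
      rw [← relIndex_mul_index (DN.le.trans' le_sup_left), iM, ← DN, relIndex_sup_left, h2]
    obtain ⟨K0, hK0⟩ := Sylow.exists_subgroup_card_pow_prime (G := C ⧸ D) 2 (n := 1)
      (by rw [← index, h4]; norm_num)
    have h5 : K0.index = 3 := by
      have := K0.card_mul_index
      rw [hK0, ← index, h4] at this
      omega
    let K := K0.comap (QuotientGroup.mk' D)
    have iK : K.index = 3 := (index_comap_of_surjective K0 (QuotientGroup.mk'_surjective D)).trans h5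
    have DK : D ≤ K := (QuotientGroup.ker_mk' D).ge.trans (ker_le_comap _ _)
    have NK : ¬ N ≤ K := fun h => by
      have := index_dvd_of_le (DN.ge.trans (sup_le DK h))
      rw [iM, iK] at this
      omega
    have h6 := relIndex_mul_relIndex Q (K ⊓ N) N (le_inf (le_sup_right.trans DK) hQN) inf_le_right
    rw [rQ, inf_relIndex_right] at h6
    have h7 : K.relIndex N = 3 := ((Nat.dvd_prime Nat.prime_three).1 (Dvd.intro_left _ h6)).resolve_left
      fun e => NK (relIndex_eq_one.1 e)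
    refine hns K (le_antisymm (relIndex_eq_one.1 (by rw [h7] at h6; omega))
      (le_inf (le_sup_right.trans DK) hQN)) ?_
    have h8 := relIndex_mul_index (H := K) (K := K ⊔ N) le_sup_left
    rw [iK] at h8
    rcases (Nat.dvd_prime Nat.prime_three).1 (Dvd.intro_left _ h8) with h9 | h9
    · exact index_eq_one.1 h9
    · rw [h9] at h8
      exact absurd (le_sup_right.trans ((relIndex_eq_one (H := K) (K := K ⊔ N)).1 (by omega))) NK
  refine ⟨M, inferInstance, NM, iM, hM.ge.trans (sup_le le_sup_left key), fun c hc => ?_, ?_, ?_⟩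
  · have h1 : f c = 1 := by
      ext s
      obtain ⟨m, hm⟩ := fs (MulAut.conj s)
      have h2 : f (c * m * c⁻¹ * m⁻¹) = 1 := kf.ge (hc m ⟨s, hm.symm⟩)
      rw [map_mul, map_mul, map_mul, map_inv, map_inv, hm, mul_inv_eq_one] at h2
      refine conj_inj hna (Eq.trans ?_ h2)
      ext t
      simp
    exact NM (kf.le h1)
  · have k1 : N.subgroupOf M = (f.comp M.subtype).ker := by
      rw [← MonoidHom.comap_ker, kf]; rfl
    have k2 : (f.comp M.subtype).range = I := by
      rw [MonoidHom.range_comp, range_subtype, mM]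
    exact ⟨(((QuotientGroup.quotientMulEquivOfEq k1).trans
      (QuotientGroup.quotientKerEquivRange _)).trans (MulEquiv.subgroupCongr k2)).trans
      (MonoidHom.ofInjective (conj_inj hna)).symm⟩
  let q := QuotientGroup.mk' Q
  have kq : q.ker = Q := QuotientGroup.ker_mk' Q
  haveI : (N.map q).Normal := Normal.map inferInstance q (QuotientGroup.mk'_surjective Q)
  have cN : Nat.card (N.map q) = 3 := by rw [← relIndex_ker, kq, rQ]
  haveI : Fact (Nat.Prime 3) := ⟨Nat.prime_three⟩
  haveI : IsCyclic (N.map q) := isCyclic_of_prime_card cN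
  have hc : ∀ x y : MulAut (N.map q), x * y = y * x := fun x y =>
    (IsCyclic.mulAutMulEquiv (N.map q)).injective (by rw [map_mul, map_mul, mul_comm])
  let φ : C →* MulAut (N.map q) := MulAut.conjNormal.comp q
  have h1 : ⁅M, M⁆ ≤ φ.ker := commutator_le.2 fun a _ b _ => by
    rw [MonoidHom.mem_ker, map_commutatorElement, commutatorElement_eq_one_iff_mul_comm]
    exact hc _ _
  have h2 : Q ≤ φ.ker := fun a ha => by
    rw [MonoidHom.mem_ker]
    change MulAut.conjNormal (q a) = 1
    rw [show q a = 1 from kq.ge ha, map_one]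
  have h3 : M ≤ φ.ker := hM.ge.trans (sup_le h1 (key.trans (sup_le h1 h2)))
  refine commutator_le.2 fun m hm n hn => kq.le ?_
  have h4 := congrArg Subtype.val (DFunLike.congr_fun (show φ m = 1 from h3 hm) ⟨q n, n, hn, rfl⟩)
  rw [MonoidHom.mem_ker, map_commutatorElement, commutatorElement_eq_one_iff_mul_comm]
  exact mul_inv_eq_iff_eq_mul.1 h4

theorem b7 [IsSimpleGroup Cfsg.Spor.M22] (hna : ¬ IsMulCommutative Cfsg.Spor.M22)
    (hA : Nat.card (MulAut Cfsg.Spor.M22) = 2 * Nat.card Cfsg.Spor.M22)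
    {G : Type*} [Group G] [Finite G] (τ : G) (Q N : Subgroup ↥(centralizer ({τ} : Set G)))
    [Q.Normal] [N.Normal] (hS : Cfsg.IsExtraspecialCentralizerSetting τ Q 6)
    (hF : centralizer ((Cfsg.generalizedFittingSubgroup ↥(centralizer ({τ} : Set G)) :
      Subgroup ↥(centralizer ({τ} : Set G))) : Set ↥(centralizer ({τ} : Set G))) ≤
      Cfsg.generalizedFittingSubgroup ↥(centralizer ({τ} : Set G)))
    (hQN : Q ≤ N) (hN3 : Nat.card ↥N = 3 * Nat.card ↥Q)
    (hns : ∀ K : Subgroup ↥(centralizer ({τ} : Set G)), K ⊓ N = Q → K ⊔ N = ⊤ → False)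
    (hAut : Nonempty (↥(centralizer ({τ} : Set G)) ⧸ N ≃* MulAut ↥Cfsg.Spor.M22)) :
    orderOf τ = 2 ∧ ∃ M, H7B.St Q N M := by
  obtain ⟨e⟩ := hAut
  obtain ⟨M, nM, h1, h2, h3, h4, h5, h6⟩ := gq7 hna hA Q N hQN hN3 hns e
  rw [hS.2.1] at hF
  exact ⟨hS.1, M, inferInstance, nM, hQN, h1, h2, hS.2.2.1, hS.2.2.2.1, hN3, h6, h3, hF, h4, h5⟩

end H16.Gl7
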