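import Cfsg.Agent.H16.LA24
import Cfsg.Agent.H23.TsPair

/-! Unipotent isometries, involutions in characteristic two, orthogonal decompositions and
polar pairs. -/

set_option autoImplicit false

namespace H16

open Module Polynomial H23 H23.Form H14.Wall Matrix

universe u v

section Gen

variable {F : Type u} {V W : Type*} [Field F] {σ : F →+* F} [AddCommGroup V] [Module F V]
  [AddCommGroup W] [Module F W] {Φ : Form σ V} {Ψ : Form σ W} {g : End F V} {h : End F W}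

theorem iso_range (hΨ : Ψ.Nondeg) (φ : W →ₗ[F] V) (hB : ∀ x y, Φ.B (φ x) (φ y) = Ψ.B x y)
    (hQ : ∀ x, Φ.Q (φ x) = Ψ.Q x) (H : ∀ w, φ (h w) = g (φ w)) :
    ∃ hA : ∀ x ∈ LinearMap.range φ, g x ∈ LinearMap.range φ,
      Iso Ψ h (Φ.restrict (LinearMap.range φ)) (g.restrict hA) := by
  have hi : Function.Injective φ := (injective_iff_map_eq_zero _).2 fun x hx =>
    hΨ x fun y => by rw [← hB, hx]; simp
  exact ⟨by rintro _ ⟨w, rfl⟩; exact ⟨h w, H w⟩, LinearEquiv.ofInjective φ hi,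
    fun x y => hB x y, fun x => hQ x, fun w => Subtype.ext (by simp [H])⟩

theorem exists_of_iso_prod {U : Type*} [AddCommGroup U] [Module F U] {Θ : Form σ U} {k : End F U}
    (hΨ : Ψ.Nondeg) {hε : Θ.ε = Ψ.ε} {hκ : Θ.κ = Ψ.κ}
    (H : Iso (fprod Ψ Θ hε hκ) (h.prodMap k) Φ g) : ∃ (A : Submodule F V)
      (hA : ∀ x ∈ A, g x ∈ A), Iso Ψ h (Φ.restrict A) (g.restrict hA) := by
  obtain ⟨e, e1, e2, e3⟩ := H
  exact ⟨_, iso_range hΨ (e.toLinearMap ∘ₗ LinearMap.inl F _ _) (fun x y => by simp [e1, fprod_B])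
    (fun x => by simp [e2, fprod_Q, Θ.Q_zero]) fun w => by simp [← e3]⟩

theorem exists_sub_of_sub {A : Submodule F V} {hA : ∀ x ∈ A, g x ∈ A} {B : Submodule F A}
    (hB : ∀ x ∈ B, g.restrict hA x ∈ B) (hn : ((Φ.restrict A).restrict B).Nondeg) :
    ∃ (D : Submodule F V) (hD : ∀ x ∈ D, g x ∈ D), D ≤ A ∧ Iso ((Φ.restrict A).restrict B)
      ((g.restrict hA).restrict hB) (Φ.restrict D) (g.restrict hD) := by
  obtain ⟨h1, h2⟩ := iso_range (Φ := Φ) (g := g) (h := (g.restrict hA).restrict hB) hn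
    (A.subtype ∘ₗ B.subtype) (fun _ _ => rfl) (fun _ => rfl) fun _ => rfl
  exact ⟨_, h1, by rintro _ ⟨x, rfl⟩; exact x.1.2, h2⟩

/-- The rank of `g - 1`. -/
noncomputable def rkE (g : End F V) : ℕ := finrank F (LinearMap.range (g - 1 : End F V))

theorem rkE_one : rkE (1 : End F V) = 0 := by
  rw [rkE, sub_self, LinearMap.range_eq_bot.2 rfl, finrank_bot]

theorem aeval_X_sub_one (g : End F V) : aeval g (X - C 1 : F[X]) = g - 1 := by
  rw [map_sub, aeval_X, aeval_C, map_one]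

theorem Sim.rkE_eq (H : Sim g h) : rkE g = rkE h := by
  have := (H.aeval (X - C 1)).finrank_range
  rwa [aeval_X_sub_one, aeval_X_sub_one] at this

theorem rkE_add_kd [FiniteDimensional F V] (g : End F V) :
    rkE g + kd g (X - C 1) = finrank F V := by
  rw [kd, aeval_X_sub_one]
  exact LinearMap.finrank_range_add_finrank_ker (g - 1)

theorem rkE_prodMap [FiniteDimensional F V] [FiniteDimensional F W] (g : End F V) (h : End F W) :
    rkE (g.prodMap h) = rkE g + rkE h := by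
  have h1 := rkE_add_kd (g.prodMap h)
  have h2 := rkE_add_kd g
  have h3 := rkE_add_kd h
  rw [kd_prodMap, finrank_prod] at h1
  omega

theorem rkE_eq_zero [FiniteDimensional F V] : rkE g = 0 ↔ g = 1 := by
  rw [rkE, Submodule.finrank_eq_zero, LinearMap.range_eq_bot, sub_eq_zero]

theorem rkE_of_nondeg [FiniteDimensional F V] (hΦ : Φ.Nondeg) (hg : Pres Φ g) {A : Submodule F V}
    (hA : ∀ x ∈ A, g x ∈ A) (hn : (Φ.restrict A).Nondeg) :
    rkE g = rkE (g.restrict hA) + rkE (g.restrict (hg.perp_inv hΦ hA)) := by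
  rw [← rkE_prodMap,
    (sim_prod_restrict (hΦ.isCompl_perp (Φ.nondeg_restrict_iff.1 hn)) hA _).rkE_eq]

theorem count_uni [DecidableEq F[X]] (μ : Multiset ℕ) (j : ℕ) :
    (uni F μ).count ((X - C 1) ^ j) = μ.count j :=
  Multiset.count_map_eq_count' _ _ (fun a b h => by
    simpa [natDegree_X_sub_C_pow', -map_one] using congrArg natDegree h) j

theorem uni_add (μ ν : Multiset ℕ) : uni F (μ + ν) = uni F μ + uni F ν := Multiset.map_add _ _ _

theorem exists_uni_of_le {μ : Multiset ℕ} {s : Multiset F[X]} (h : s ≤ uni F μ) :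
    ∃ ν ≤ μ, s = uni F ν := by
  obtain ⟨ν, h1, h2⟩ := exists_le_of_map_le h
  exact ⟨ν, h1, h2.symm⟩

theorem X_pow_char (p : ℕ) [Fact p.Prime] [CharP F p] : (X ^ p - 1 : F[X]) = (X - C 1) ^ p := by
  rw [sub_pow_char]; simp

theorem ed_uni_of_pow [FiniteDimensional F V] (p : ℕ) [hp : Fact p.Prime] [CharP F p]
    (h : g ^ p = 1) :
    ∃ μ, (∀ a ∈ μ, 0 < a ∧ a ≤ p) ∧ μ.sum = finrank F V ∧ ed g = uni F μ := by
  have h1 : ∀ q ∈ ed g, q = (X - C 1) ^ q.natDegree ∧ q.natDegree ≤ p := fun q hq => by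
    have h2 := (ed_dvd_one_iff g p).1 h q hq
    rw [X_pow_char] at h2
    obtain ⟨e, h3, h4⟩ := (dvd_prime_pow (prime_X_sub_C (1 : F)) p).1 h2
    obtain rfl := eq_of_monic_of_associated (ed_isPP hq).monic ((monic_X_sub_C _).pow e) h4
    rw [natDegree_X_sub_C_pow']; exact ⟨rfl, h3⟩
  refine ⟨(ed g).map natDegree, fun a ha => ?_, sum_natDegree_ed g, ?_⟩
  · obtain ⟨q, hq, rfl⟩ := Multiset.mem_map.1 ha
    exact ⟨(ed_isPP hq).natDegree_pos, (h1 q hq).2⟩
  · rw [uni, Multiset.map_map]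
    exact (Multiset.map_id' _).symm.trans (Multiset.map_congr rfl fun q hq => (h1 q hq).1)

theorem pow_of_ed_uni [FiniteDimensional F V] (p : ℕ) [hp : Fact p.Prime] [CharP F p]
    {μ : Multiset ℕ} (h : ed g = uni F μ) (h' : ∀ a ∈ μ, a ≤ p) : g ^ p = 1 :=
  (ed_dvd_one_iff g p).2 fun q hq => by
    rw [h] at hq
    obtain ⟨a, ha, rfl⟩ := Multiset.mem_map.1 hq
    rw [X_pow_char]; exact pow_dvd_pow _ (h' a ha)

theorem not_scalar_of_uni [FiniteDimensional F V] {μ : Multiset ℕ} (h : ed g = uni F μ) {a : ℕ}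
    (ha : a ∈ μ) (h1 : a ≠ 1) (c : F) : g ≠ c • (1 : End F V) :=
  not_scalar_of_mem (q := (X - C 1) ^ a) (h ▸ Multiset.mem_map_of_mem _ ha) fun e => h1 (by
    simpa [natDegree_X_sub_C_pow', -map_one] using congrArg natDegree e)

theorem finrank_of_uni [FiniteDimensional F V] {μ : Multiset ℕ} (h : ed g = uni F μ) :
    finrank F V = μ.sum := by rw [← sum_natDegree_ed g, h, uni_natDegree]

end Gen

section Unip

theorem unip_compl {F : Type u} [Field F] [Finite F] (h2 : (2 : F) ≠ 0) {s : Multiset F[X]}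
    {ε : F} (k : ℕ) : ∀ (ν : Multiset ℕ) {V : Type v} [AddCommGroup V] [Module F V]
    [FiniteDimensional F V] {Φ : Form (RingHom.id F) V} {g : End F V}, ν.card ≤ k →
    (∀ a ∈ ν, 0 < a) → (∀ j, ε * (-1) ^ j ≠ 1 → Even (ν.count (j + 1))) → Φ.Nondeg → Φ.ε = ε →
    Pres Φ g → ed g = uni F ν + s → ∃ (A : Submodule F V) (hA : ∀ x ∈ A, g x ∈ A),
      (Φ.restrict A).Nondeg ∧ ed (g.restrict hA) = s := by
  induction k with
  | zero =>
    intro ν V _ _ _ Φ g h1 _ _ hΦ _ _ h3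
    obtain rfl : ν = 0 := by simpa using h1
    obtain ⟨hA, H⟩ := iso_range (Φ := Φ) (g := g) (h := g) hΦ LinearMap.id (fun _ _ => rfl)
      (fun _ => rfl) fun _ => rfl
    exact ⟨_, hA, H.nondeg hΦ, by rw [← H.sim.ed_eq, h3]; simp [uni]⟩
  | succ k ih =>
    intro ν V _ _ _ Φ g h1 h3 h4 hΦ hε hg h5
    by_cases h0 : ν = 0
    · exact ih ν (by simp [h0]) h3 h4 hΦ hε hg h5
    obtain ⟨a, ha⟩ := Multiset.exists_mem_of_ne_zero h0
    obtain ⟨j, rfl⟩ : ∃ j, a = j + 1 := ⟨a - 1, by have := h3 a ha; omega⟩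
    have hj : (X - C 1) ^ (j + 1) ∈ ed g :=
      h5 ▸ Multiset.mem_add.2 (Or.inl (Multiset.mem_map_of_mem _ ha))
    have key : ∀ (l : ℕ) (x : Fin (l + 1) → V), (∀ i, x i ∈ Kr g j) →
        (Matrix.of fun i k => bt Φ g j (x i) (x k)).det ≠ 0 → l + 1 ≤ ν.count (j + 1) →
        (ε * (-1) ^ j ≠ 1 → Even (l + 1)) → ∃ (A : Submodule F V) (hA : ∀ x ∈ A, g x ∈ A),
          (Φ.restrict A).Nondeg ∧ ed (g.restrict hA) = s := by
      intro l x h6 h7 h8 h9
      obtain ⟨Θ, A, hA, e1, e2, -, -, -, a4, H⟩ := exists_block hΦ hg x h6 h7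
      obtain ⟨ν', rfl⟩ := Multiset.le_iff_exists_add.1 (Multiset.le_count_iff_replicate_le.1 h8)
      have h10 := ed_of_iso_prod H
      rw [ed_gM j.succ_pos, h5, uni_add, uni, Multiset.map_replicate, Fintype.card_fin,
        add_assoc] at h10
      obtain ⟨B, hB, h11, h12⟩ := ih ν' (by simp at h1; omega) (fun a ha => h3 a (by simp [ha]))
        (fun i hi => by
          have := h4 i hi
          rw [Multiset.count_add, Multiset.count_replicate] at this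
          split_ifs at this with h13
          · exact (Nat.even_add.1 this).1 (h9 (by rwa [Nat.succ_injective h13]))
          · simpa using this) a4 hε (hg.restrict hA) (add_left_cancel h10).symm
      obtain ⟨D, hD, -, H'⟩ := exists_sub_of_sub hB h11
      exact ⟨D, hD, H'.nondeg h11, H'.sim.ed_eq.symm.trans h12⟩
    by_cases hη : ε * (-1) ^ j = 1
    · obtain ⟨x, hx, h6⟩ := exists_bt_self h2 hΦ hg (hε ▸ hη) hj
      exact key 0 ![x] (by simpa using hx) (by simpa using h6) (Multiset.count_pos.2 ha)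
        fun h => absurd hη h
    · obtain ⟨x, hx, y, hy, h6⟩ := exists_bt_ne hΦ hg hj
      refine key 1 ![x, y] (Fin.forall_fin_two.2 ⟨hx, hy⟩) (by
        simp [Matrix.det_fin_two, h6, bt_self_alt h2 hg (hε ▸ hη) hx, bt_swap hg.B x hy,
          Φ.eps_ne_zero]) ?_ fun _ => by simp
      obtain ⟨t, ht⟩ := h4 j hη
      have := Multiset.count_pos.2 ha
      omega

variable {F : Type u} {V : Type*} [Field F] [Finite F] [AddCommGroup V] [Module F V]
  [FiniteDimensional F V] {Φ : Form (RingHom.id F) V} {g : End F V}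

theorem unip_nd (h2 : (2 : F) ≠ 0) (hΦ : Φ.Nondeg) (hg : Pres Φ g) {ν : Multiset ℕ}
    (h3 : ∀ a ∈ ν, 0 < a) (h4 : ∀ j, Φ.ε * (-1) ^ j ≠ 1 → Even (ν.count (j + 1)))
    (h : uni F ν ≤ ed g) : ∃ (A : Submodule F V) (hA : ∀ x ∈ A, g x ∈ A),
      (Φ.restrict A).Nondeg ∧ ed (g.restrict hA) = uni F ν := by
  obtain ⟨s, hs⟩ := Multiset.le_iff_exists_add.1 h
  obtain ⟨A, hA, h5, h6⟩ := unip_compl h2 _ ν le_rfl h3 h4 hΦ rfl hg hs
  refine ⟨_, hg.perp_inv hΦ hA, hΦ.nondeg_restrict_perp (Φ.nondeg_restrict_iff.1 h5), ?_⟩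
  have := ed_of_nondeg hΦ hg hA h5
  rw [h6, hs, add_comm] at this
  exact add_right_cancel this

theorem even_count_uni (h2 : (2 : F) ≠ 0) (hΦ : Φ.Nondeg) (hg : Pres Φ g) {ν : Multiset ℕ}
    (h : ed g = uni F ν) {j : ℕ} (hj : Φ.ε * (-1) ^ j ≠ 1) : Even (ν.count (j + 1)) := by
  classical
  have := even_count h2 hΦ hg hj
  rw [h] at this
  convert this
  convert (count_uni ν (j + 1)).symm

end Unip

section Char2

variable {F : Type u} {V W : Type*} [Field F] [AddCommGroup V] [Module F V]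
  [AddCommGroup W] [Module F W] {Φ : Form (RingHom.id F) V} {Ψ : Form (RingHom.id F) W}
  {g : End F V} {h : End F W}

/-- Type `a`. -/
def IA (Φ : Form (RingHom.id F) V) (g : End F V) : Prop := ∀ x, Φ.B x (g x) = 0

theorem IA.restrict (H : IA Φ g) {A : Submodule F V} (hA : ∀ x ∈ A, g x ∈ A) :
    IA (Φ.restrict A) (g.restrict hA) := fun x => H x

theorem ia_prodMap {hε : Ψ.ε = Φ.ε} {hκ : Ψ.κ = Φ.κ} :
    IA (fprod Φ Ψ hε hκ) (g.prodMap h) ↔ IA Φ g ∧ IA Ψ h :=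
  ⟨fun H => ⟨fun x => by simpa [fprod_B] using H (x, 0), fun x => by
    simpa [fprod_B] using H (0, x)⟩, fun H x => by simp [fprod_B, H.1 x.1, H.2 x.2]⟩

theorem ia_of_iso (H : Iso Φ g Ψ h) : IA Φ g ↔ IA Ψ h := by
  obtain ⟨e, h1, -, h3⟩ := H
  exact ⟨fun H x => by obtain ⟨x, rfl⟩ := e.surjective x; rw [← h3, h1, H],
    fun H x => by rw [← h1, h3, H]⟩

theorem mul_self_of_sim (H : Sim g h) (hg : g * g = 1) : h * h = 1 := by
  obtain ⟨e, he⟩ := H
  refine LinearMap.ext fun x => ?_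
  obtain ⟨x, rfl⟩ := e.surjective x
  rw [End.mul_apply, ← he, ← he, ← End.mul_apply, hg]; rfl

variable [Fintype F] [CharP F 2] [FiniteDimensional F V] [FiniteDimensional F W]

theorem ia_one : IA Φ 1 := fun x => c2_self Φ x

omit [Fintype F] [CharP F 2] in
theorem toO_mul_self (hΦ : Φ.Nondeg) (hg : Pres Φ g) (h : g * g = 1) :
    hg.toO hΦ * hg.toO hΦ = 1 := H22.O_ext _ fun x => congrArg (fun k : End F V => k x) h

theorem IA.even (hΦ : Φ.Nondeg) (hg : Pres Φ g) (H : IA Φ g) : Even (rkE g) :=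
  IsA.even (g := hg.toO hΦ) hΦ H

theorem two_rkE_le (hΦ : Φ.Nondeg) (hg : Pres Φ g) (h : g * g = 1) : 2 * rkE g ≤ finrank F V :=
  (show rk (hg.toO hΦ) = rkE g from rfl) ▸ two_rk_le (toO_mul_self hΦ hg h) hΦ

omit [FiniteDimensional F W] in
theorem iso_invol (hΦ : Φ.Nondeg) (H : Iso Ψ 1 Φ 1) (hg : Pres Φ g) (hh : Pres Ψ h)
    (h1 : g * g = 1) (h2 : h * h = 1) (h3 : rkE h = rkE g) (h4 : IA Ψ h ↔ IA Φ g) :
    Iso Ψ h Φ g := by
  obtain ⟨k, hk, H'⟩ := exists_pres_of_iso H hh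
  exact H'.trans (isConj_iff_iso.1 ((invol_isConj_iff' (toO_mul_self hΦ hk
    (mul_self_of_sim H'.sim h2)) (toO_mul_self hΦ hg h1) hΦ).2
      ⟨H'.sim.rkE_eq.symm.trans h3, (ia_of_iso H').symm.trans h4⟩))

omit [FiniteDimensional F V] in
theorem sq_eq_one_char2 [Nontrivial V] (hΦ : Φ.Nondeg) (hg : Pres Φ g) {z : F}
    (h : g ^ 2 = z • (1 : End F V)) : g * g = 1 := by
  have h1 : z * z = 1 := scalar_norm hΦ (h ▸ pres_pow hg 2)
  rw [← sq, h, eq_of_sq_eq (a := z) (b := 1) (by rw [sq, h1, one_pow]), one_smul]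

omit [FiniteDimensional F V] in
theorem not_scalar_char2 [Nontrivial V] (hΦ : Φ.Nondeg) (hg : Pres Φ g) (h : rkE g ≠ 0) (z : F) :
    g ≠ z • (1 : End F V) := by
  rintro rfl
  have h1 : z * z = 1 := scalar_norm hΦ hg
  rw [eq_of_sq_eq (a := z) (b := 1) (by rw [sq, h1, one_pow]), one_smul] at h
  exact h rkE_one

theorem exists_inv_a (hΦ : Φ.Nondeg) {A : Submodule F V} (hA : Φ.TotSing A) {s : ℕ} (hs : Even s)
    (h : s ≤ finrank F A) : ∃ g, Pres Φ g ∧ g * g = 1 ∧ rkE g = s ∧ IA Φ g := by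
  obtain ⟨g, h1, h2, h3⟩ := exists_invol_a hΦ hA hs h
  exact ⟨_, pres_O g, congrArg (fun k : Φ.O => k.1.toLinearMap) h1, h2, h3⟩

theorem exists_inv_alt_a (hΦ : Φ.Nondeg) (hκ : Φ.κ = 0) {s : ℕ} (hs : Even s)
    (h : 2 * s ≤ finrank F V) : ∃ g, Pres Φ g ∧ g * g = 1 ∧ rkE g = s ∧ IA Φ g := by
  obtain ⟨A, hA, h1⟩ := exists_ts_alt hΦ (c2_eps Φ) hκ h
  exact exists_inv_a hΦ hA hs h1.ge

theorem exists_inv_alt_b (hΦ : Φ.Nondeg) (hκ : Φ.κ = 0) {s : ℕ} (h : 2 * s ≤ finrank F V) :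
    ∃ g, Pres Φ g ∧ g * g = 1 ∧ rkE g = s ∧ (IA Φ g ↔ s = 0) := by
  rcases s with _ | s
  · exact ⟨1, pres_one Φ, mul_one 1, rkE_one, iff_of_true ia_one rfl⟩
  obtain ⟨A, hA, h1⟩ := exists_ts_alt hΦ (c2_eps Φ) hκ (m := s) (by omega)
  obtain ⟨z, h2, h3, h4⟩ := exists_z hΦ (Or.inl hκ) hA (by omega)
  obtain ⟨g, h5, h6, h7⟩ := exists_invol_b hΦ hA h2 h3 h4 h1.ge
  exact ⟨_, pres_O g, congrArg (fun k : Φ.O => k.1.toLinearMap) h5, h6,
    iff_of_false h7 (by omega)⟩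

end Char2

section OD

variable {F : Type u} {V M ι κ : Type*} [Field F] {σ : F →+* F} [AddCommGroup V] [Module F V]
  [AddCommGroup M] [Module F M] {Φ : Form σ V} {Ψ : Form σ M} {g : End F V} {a : ℕ}

/-- Orthogonal sum of copies of `Ψ`. -/
noncomputable def piF (Ψ : Form σ M) (ι : Type*) [Fintype ι] : Form σ (ι → M) where
  ε := Ψ.ε
  κ := Ψ.κ
  B := ∑ i, (Ψ.comap (LinearMap.proj i)).B
  Q x := ∑ i, Ψ.Q (x i)
  invol := Ψ.invol
  eps := Ψ.eps
  symm x y := by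
    simp only [LinearMap.sum_apply, comap_B, map_sum, Finset.mul_sum]
    exact Finset.sum_congr rfl fun i _ => Ψ.symm _ _
  kσ := Ψ.kσ
  kε := Ψ.kε
  Q_add x y := by
    simp [LinearMap.sum_apply, Ψ.Q_add, Finset.mul_sum, Finset.sum_add_distrib]
  Q_smul c x := by simp [Ψ.Q_smul, Finset.mul_sum]
  trace v := by
    choose s h1 h2 using fun i => Ψ.trace (v i)
    exact ⟨∑ i, s i, by simp [LinearMap.sum_apply, h1, Finset.mul_sum, Finset.sum_add_distrib],
      by simp [Finset.mul_sum, h2]⟩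

theorem piF_B [Fintype ι] (x y : ι → M) : (piF Ψ ι).B x y = ∑ i, Ψ.B (x i) (y i) := by
  simp [piF, LinearMap.sum_apply]

theorem piF_Q [Fintype ι] (x : ι → M) : (piF Ψ ι).Q x = ∑ i, Ψ.Q (x i) := rfl

theorem piF_single [Fintype ι] [DecidableEq ι] (i : ι) (x : M) (y : ι → M) :
    (piF Ψ ι).B (Pi.single i x) y = Ψ.B x (y i) := by
  rw [piF_B, Fintype.sum_eq_single i fun j hj => by simp [hj]]; simp

theorem piF_nondeg [Fintype ι] (hΨ : Ψ.Nondeg) : (piF Ψ ι).Nondeg := by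
  classical
  intro x hx
  refine funext fun i => hΨ _ fun y => Ψ.B_eq_zero_symm ?_
  rw [← piF_single]; exact (piF Ψ ι).B_eq_zero_symm (hx _)

variable {r : ℕ} [hr : Fact r.Prime]

theorem pres_mg {u w : ℕ} {B : Fin w → End F M} (hB : ∀ j, Pres Ψ (B j)) :
    Pres (piF Ψ (MI u r w)) (mg u 1 B) := by
  refine ⟨fun x y => ?_, fun x => ?_⟩
  · rw [piF_B, piF_B]
    refine Fintype.sum_equiv (mσ u r w).symm _ _ ?_
    rintro (⟨j, i⟩ | j)
    · simp [mg_inl, mσ, sub_eq_add_neg]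
    · simp [mg_inr, mσ, (hB j).B]
  · rw [piF_Q, piF_Q]
    refine Fintype.sum_equiv (mσ u r w).symm _ _ ?_
    rintro (⟨j, i⟩ | j)
    · simp [mg_inl, mσ, sub_eq_add_neg]
    · simp [mg_inr, mσ, (hB j).Q]

/-- `g` permutes the members of an orthogonal decomposition. -/
def OD (Φ : Form σ V) (g : End F V) (a : ℕ) (ι : Type*) : Prop :=
  ∃ (D : ι → Submodule F V) (π : Equiv.Perm ι), Dec g a D π ∧ (∀ j, (Φ.restrict (D j)).Nondeg) ∧
    ∀ j j', j ≠ j' → ∀ u ∈ D j, ∀ v ∈ D j', Φ.B u v = 0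

omit hr in
theorem OD.reindex (h : OD Φ g a ι) (ε : κ ≃ ι) : OD Φ g a κ := by
  obtain ⟨D, π, h1, h2, h3⟩ := h
  exact ⟨_, ε.symm.permCongr π, h1.comp ε fun x => by simp, fun j => h2 _,
    fun j j' h => h3 _ _ (ε.injective.ne h)⟩

omit hr in
theorem OD.of_smul {c : F} (hc : c ≠ 0) (h : OD Φ (c • g) a ι) : OD Φ g a ι := by
  obtain ⟨D, π, h1, h2⟩ := h
  exact ⟨D, π, by simpa [smul_smul, hc] using h1.smul (inv_ne_zero hc), h2⟩

theorem od_of_iso {Ψ : Form σ (Fin a → F)} (hΨ : Ψ.Nondeg) {u w t : ℕ}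
    {B : Fin w → End F (Fin a → F)} (hB : ∀ j, Pres Ψ (B j))
    (H : Iso (piF Ψ (MI u r w)) (mg u 1 B) Φ g) (ht : t = u * r + w) : OD Φ g a (Fin t) := by
  classical
  obtain ⟨ε⟩ : Nonempty (Fin t ≃ MI u r w) := Fintype.card_eq.1 (by simp [ht])
  refine OD.reindex ?_ ε
  obtain ⟨E, e1, -, hE⟩ := H
  obtain ⟨h1, h2, h3⟩ := decomp_of_equiv E
  refine ⟨_, mσ u r w, ⟨fun i => (h3 i).trans (by simp), h1, h2, fun i => ?_⟩, fun j => ?_, ?_⟩
  · have hs : Function.Surjective ((Sum.elim (fun x : Fin u × ZMod r =>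
        (if x.2 = 0 then (1 : F) else 1) • (1 : End F (Fin a → F))) B (mσ u r w i) :)) := by
      rcases mσ u r w i with x | j
      · intro y; exact ⟨y, by simp⟩
      · exact (hB j).surj hΨ
    rw [← LinearMap.range_comp]
    refine Eq.trans ?_ (LinearMap.range_comp_of_range_eq_top _ (LinearMap.range_eq_top.2 hs))
    congr 1
    refine LinearMap.ext fun x => ?_
    simp only [LinearMap.comp_apply, LinearEquiv.coe_coe, LinearMap.coe_single, ← hE, mg_single]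
  · refine nondeg_restrict_iff'.2 ?_
    rintro _ ⟨x, rfl⟩ hx
    obtain ⟨y, hy⟩ := hΨ.exists_ne (x := x) (by rintro rfl; simp at hx)
    exact ⟨_, ⟨y, rfl⟩, by simp [e1, piF_single, hy]⟩
  · rintro j j' h _ ⟨x, rfl⟩ _ ⟨y, rfl⟩
    simp [e1, piF_single, h]

theorem Dec.one_or_le [FiniteDimensional F V] [Fintype ι] [DecidableEq ι] {z : F} (hz : z ≠ 0)
    (hf : g ^ r = z • (1 : End F V)) (ha : a ≠ 0) {D : ι → Submodule F V} {π : Equiv.Perm ι}
    (h : Dec g a D π) : π = 1 ∨ a • ppf (X ^ r - C z) ≤ ed g := by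
  obtain ⟨u, w, ε, hε⟩ := exists_equiv_mσ (h.pow_eq_one ha hz hf)
  obtain ⟨B, hB⟩ := sim_of_dec hz hf (h.comp ε hε)
  rcases u with _ | u
  · refine Or.inl (Equiv.ext fun x => ?_)
    obtain ⟨x, rfl⟩ := ε.surjective x
    rcases x with ⟨j, i⟩ | j
    · exact j.elim0
    · exact hε _
  · rw [← hB.ed_eq, ed_mg, add_mul, one_mul, add_nsmul]
    exact Or.inr (le_add_right le_add_self)

omit hr in
theorem Dec.inv {D : ι → Submodule F V} (h : Dec g a D 1) (j : ι) : ∀ x ∈ D j, g x ∈ D j :=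
  map_le_iff_inv.1 (h.map j).le

omit hr in
theorem factorial_dvd_card {t : ℕ} {α : Type*} (P : (Fin t → α) → Prop)
    (h1 : ∀ D (π : Equiv.Perm (Fin t)), P D → P (D ∘ π)) (h2 : ∀ D, P D → Function.Injective D) :
    t.factorial ∣ Nat.card {D // P D} := by
  let : MulAction (Equiv.Perm (Fin t)) {D // P D} :=
    { smul := fun σ D => ⟨D.1 ∘ σ.symm, h1 _ _ D.2⟩
      one_smul := fun _ => rfl
      mul_smul := fun _ _ _ => rfl }
  rw [Nat.card_congr (MulAction.selfEquivOrbitsQuotientProd (G := Equiv.Perm (Fin t)) ?_),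
    Nat.card_prod, Nat.card_perm, Nat.card_fin]
  · exact dvd_mul_left _ _
  · intro D
    rw [eq_bot_iff]
    intro σ hσ
    rw [Subgroup.mem_bot, ← inv_eq_one]
    ext i
    exact congrArg Fin.val (h2 _ D.2 (congrFun (congrArg Subtype.val hσ) i))

omit hr in
open scoped Pointwise in
/-- Transitivity on orthogonal decompositions. -/
theorem card_od_dvd [FiniteDimensional F V] [Fintype ι] (hΦ : Φ.Nondeg)
    (P : (ι → Submodule F V) → Prop)
    (hP : ∀ D, P D → iSupIndep D ∧ iSup D = ⊤ ∧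
      ∀ j j', j ≠ j' → ∀ u ∈ D j, ∀ v ∈ D j', Φ.B u v = 0)
    (hP' : ∀ D D' j, P D → P D' → Iso (Φ.restrict (D j)) 1 (Φ.restrict (D' j)) 1)
    (hκ : Φ.κ = 0) (hm : ∀ D (k : Φ.O), P D → P fun j => (D j).map k.1.toLinearMap)
    (h0 : ∃ D, P D) : Nat.card {D // P D} ∣ Nat.card Φ.O := by
  classical
  obtain ⟨D₀, h0⟩ := h0
  have h1 : {D | P D} = MulAction.orbit Φ.O D₀ := by
    ext D
    refine ⟨fun h => ?_, by rintro ⟨k, rfl⟩; exact hm _ k h0⟩
    choose e e1 _ _ using fun j => hP' D₀ D j h0 h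
    obtain ⟨a1, a2, a3⟩ := hP _ h0
    obtain ⟨b1, b2, b3⟩ := hP _ h
    have c1 := smE_bijective a1 a2 (e := fun j => (D₀ j).subtype)
      (fun _ => Subtype.val_injective) fun _ => Submodule.range_subtype _
    let φ := smE (fun j => (D j).subtype ∘ₗ (e j).toLinearMap) ∘ₗ
      (LinearEquiv.ofBijective _ c1).symm.toLinearMap
    have c2 : ∀ x, φ (smE (fun j => (D₀ j).subtype) x) = ∑ j, (e j (x j) : V) := fun x => by
      simp only [φ, LinearMap.comp_apply, LinearEquiv.coe_coe]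
      rw [LinearEquiv.ofBijective_symm_apply_apply, smE_apply]; rfl
    have c3 : Pres Φ φ := ⟨fun x y => by
      obtain ⟨x, rfl⟩ := c1.2 x
      obtain ⟨y, rfl⟩ := c1.2 y
      rw [c2, c2]
      simp only [smE_apply, map_sum, LinearMap.sum_apply]
      refine Finset.sum_congr rfl fun i _ => Finset.sum_congr rfl fun j _ => ?_
      by_cases hij : j = i
      · subst hij; exact e1 j _ _
      · rw [b3 j i hij _ (e j _).2 _ (e i _).2]
        exact (a3 j i hij _ (x j).2 _ (y i).2).symm,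
      fun x => by rw [H22.Q_eq_zero_of_κ _ hκ, H22.Q_eq_zero_of_κ _ hκ]⟩
    refine ⟨c3.toO hΦ, funext fun j => ?_⟩
    have c4 : ∀ x : D₀ j, φ x = e j x := fun x => by
      have := c2 (Pi.single j x)
      rwa [smE_single, Fintype.sum_eq_single j fun i hi => by simp [hi], Pi.single_eq_same] at this
    refine le_antisymm ?_ fun v hv => ?_
    · rintro _ ⟨x, hx, rfl⟩
      exact (c4 ⟨x, hx⟩).symm ▸ (e j ⟨x, hx⟩).2
    · exact ⟨(e j).symm ⟨v, hv⟩, ((e j).symm ⟨v, hv⟩).2, (c4 _).trans (by simp)⟩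
  change Nat.card ({D | P D} : Set _) ∣ _
  rw [h1, Nat.card_coe_set_eq, ← MulAction.index_stabilizer]
  exact Subgroup.index_dvd_card _

omit hr in
theorem exists_distrib (b t : ℕ) : ∀ N ≤ t * b, ∃ f : Fin t → ℕ, (∀ j, f j ≤ b) ∧ ∑ j, f j = N := by
  induction t with
  | zero => intro N h; exact ⟨0, by simp, by simp at h ⊢; omega⟩
  | succ t ih =>
    intro N h
    obtain ⟨f, h1, h2⟩ := ih (N - b) (by rw [add_mul] at h; omega)
    exact ⟨Fin.cons (min N b) f, Fin.forall_fin_succ.2 ⟨by simp, by simpa using h1⟩, by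
      simp [Fin.sum_univ_succ, h2]; omega⟩

end OD

section Pair

variable {F : Type u} {V : Type*} [Field F] {σ : F →+* F} [AddCommGroup V] [Module F V]
  [FiniteDimensional F V] {Φ : Form σ V}

omit [FiniteDimensional F V] in
theorem eq_on_span {A A' : Submodule F V} {ι : Type*} {e : ι → V}
    (h1 : Submodule.span F (Set.range e) = A) (he : ∀ i, e i ∈ A) (φ : A →ₗ[F] A') (k : V →ₗ[F] V)
    (h : ∀ i, k (e i) = φ ⟨e i, he i⟩) (x : A) : k x = φ x := by
  subst h1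
  obtain ⟨x, hx⟩ := x
  induction hx using Submodule.span_induction with
  | mem x h' => obtain ⟨i, rfl⟩ := h'; exact h i
  | zero => exact k.map_zero.trans (congrArg Subtype.val φ.map_zero).symm
  | add x y hx hy a b =>
    exact (k.map_add x y).trans ((congrArg₂ _ a b).trans
      (congrArg Subtype.val (φ.map_add ⟨x, hx⟩ ⟨y, hy⟩)).symm)
  | smul c x hx a =>
    exact (k.map_smul c x).trans ((congrArg _ a).trans
      (congrArg Subtype.val (φ.map_smul c ⟨x, hx⟩)).symm)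

theorem exists_pair_map (hΦ : Φ.Nondeg) {A B A' B' : Submodule F V} (hA : Φ.TotSing A)
    (hB : Φ.TotSing B) (hc : IsCompl A B) (hA' : Φ.TotSing A') (hB' : Φ.TotSing B')
    (hc' : IsCompl A' B') (φ : A ≃ₗ[F] A') :
    ∃ k : Φ.O, (∀ x : A, k.1 x = φ x) ∧ B.map k.1.toLinearMap = B' := by
  classical
  obtain ⟨m, hm⟩ : ∃ m, finrank F A = m := ⟨_, rfl⟩
  obtain ⟨e, f, h1, h2, h3⟩ := exists_basis_pair hΦ hA hB hc hm
  have he : ∀ i, e i ∈ A := fun i => h1 ▸ Submodule.subset_span ⟨i, rfl⟩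
  have hf : ∀ i, f i ∈ B := fun i => h2 ▸ Submodule.subset_span ⟨i, rfl⟩
  have hl := linearIndependent_hyperbolic (fun i j => hA.1 _ (he i) _ (he j)) h3
    fun i j => hB.1 _ (hf i) _ (hf j)
  obtain ⟨e', he', he''⟩ : ∃ e' : Fin m → V, (∀ i, e' i = φ ⟨e i, he i⟩) ∧ ∀ i, e' i ∈ A' :=
    ⟨_, fun _ => rfl, fun _ => (φ _).2⟩
  have hle : LinearIndependent F e' := by
    rw [funext he']
    exact (LinearIndependent.of_comp A.subtype (v := fun i => (⟨e i, he i⟩ : A))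
      (show LinearIndependent F e from hl.comp _ Sum.inl_injective)).map'
        (A'.subtype ∘ₗ φ.toLinearMap)
        (LinearMap.ker_eq_bot.2 (Subtype.val_injective.comp φ.injective))
  have : ∀ j, ∃ f ∈ B', ∀ i, Φ.B (e' i) f = if i = j then 1 else 0 := fun j => by
    obtain ⟨x, hx⟩ := hΦ.exists_prescribed' hle fun i => if i = j then 1 else 0
    obtain ⟨a, ha, b, hb, rfl⟩ :=
      Submodule.mem_sup.1 (hc'.sup_eq_top ▸ Submodule.mem_top : x ∈ A' ⊔ B')
    exact ⟨b, hb, fun i => by simpa [hA'.1 _ (he'' i) a ha] using hx i⟩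
  choose f' h4 h5 using this
  obtain ⟨k, hk, h6⟩ := hΦ.witt_family hl (linearIndependent_hyperbolic
    (fun i j => hA'.1 _ (he'' i) _ (he'' j)) (fun i j => h5 j i) fun i j => hB'.1 _ (h4 i) _ (h4 j))
    (by
      rintro (i | i) (j | j)
      · simp [hA.1 _ (he i) _ (he j), hA'.1 _ (he'' _) _ (he'' _)]
      · simp [h3, h5]
      · simp only [Sum.elim_inr, Sum.elim_inl]; rw [Φ.symm, Φ.symm _ (f' i), h3, h5]
      · simp [hB.1 _ (hf i) _ (hf j), hB'.1 _ (h4 i) _ (h4 j)]) (by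
      rintro (i | i)
      · simp [hA.2 _ (he i), hA'.2 _ (he'' _)]
      · simp [hB.2 _ (hf i), hB'.2 _ (h4 i)])
  refine ⟨⟨k, hk⟩, eq_on_span h1 he φ.toLinearMap k.toLinearMap fun i => (h6 (.inl i)).trans (he' i),
    map_eq_of_le ?_ ?_⟩
  · rw [← h2, Submodule.map_span_le]
    rintro _ ⟨i, rfl⟩
    exact (h6 (.inr i)).symm ▸ h4 i
  · have := finrank_eq_of_tsPair hΦ hB hA hc.symm
    have := finrank_eq_of_tsPair hΦ hB' hA' hc'.symm
    omega

open scoped Pointwise in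
theorem card_pair_dvd [Fintype F] (hΦ : Φ.Nondeg) {d : ℕ} (hV : finrank F V = 2 * d) :
    Nat.card {P : Submodule F V × Submodule F V // IsCompl P.1 P.2 ∧ Φ.TotSing P.1 ∧
      Φ.TotSing P.2} = 0 ∨ Nat.card {P : Submodule F V × Submodule F V // IsCompl P.1 P.2 ∧
        Φ.TotSing P.1 ∧ Φ.TotSing P.2} * glc (Fintype.card F) d ∣ Nat.card Φ.O := by
  by_cases h0 : ∃ P : Submodule F V × Submodule F V, IsCompl P.1 P.2 ∧ Φ.TotSing P.1 ∧
    Φ.TotSing P.2
  swap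
  · exact Or.inl (Nat.card_eq_zero.2 (Or.inl ⟨fun P => h0 ⟨P.1, P.2⟩⟩))
  obtain ⟨⟨A, B⟩, hc, hA, hB⟩ := h0
  have hd : ∀ {A B}, IsCompl A B → Φ.TotSing A → Φ.TotSing B → finrank F A = d := fun h1 h2 h3 => by
    have := finrank_eq_of_tsPair hΦ h2 h3 h1; omega
  have h1 : {P : Submodule F V × Submodule F V | IsCompl P.1 P.2 ∧ Φ.TotSing P.1 ∧ Φ.TotSing P.2} =
      MulAction.orbit Φ.O (A, B) := by
    ext ⟨A', B'⟩
    refine ⟨fun ⟨h1, h2, h3⟩ => ?_, ?_⟩
    · obtain ⟨φ⟩ := FiniteDimensional.nonempty_linearEquiv_of_finrank_eq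
        ((hd hc hA hB).trans (hd h1 h2 h3).symm)
      obtain ⟨k, h4, h5⟩ := exists_pair_map hΦ hA hB hc h2 h3 h1 φ
      refine ⟨k, Prod.ext (map_eq_of_le ?_ φ.finrank_eq.ge) h5⟩
      rintro _ ⟨x, hx, rfl⟩
      exact (h4 ⟨x, hx⟩).symm ▸ (φ ⟨x, hx⟩).2
    · rintro ⟨k, hk⟩
      obtain ⟨rfl, rfl⟩ := Prod.ext_iff.1 hk
      exact ⟨(Submodule.orderIsoMapComap k.1).isCompl hc, hA.map k.2, hB.map k.2⟩
  right
  change Nat.card ({P | _} : Set _) * _ ∣ _
  rw [h1, Nat.card_coe_set_eq, ← MulAction.index_stabilizer,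
    ← (MulAction.stabilizer Φ.O (A, B)).index_mul_card, ← hd hc hA hB, ← card_linearEquiv_glc]
  refine mul_dvd_mul_left _ (Subgroup.card_dvd_of_surjective ((Φ.resHom A).comp
    (Subgroup.inclusion fun k hk => congrArg Prod.fst hk)) fun φ => ?_)
  obtain ⟨k, h4, h5⟩ := exists_pair_map hΦ hA hB hc hA hB hc φ
  refine ⟨⟨k, Prod.ext (map_eq_of_le ?_ le_rfl) h5⟩, LinearEquiv.ext fun x => Subtype.ext (h4 x)⟩
  rintro _ ⟨x, hx, rfl⟩
  exact (h4 ⟨x, hx⟩).symm ▸ (φ ⟨x, hx⟩).2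

theorem even_card_of_invol {α : Type*} [Finite α] (f : α → α) (hf : Function.Involutive f)
    (h : ∀ a, f a ≠ a) : 2 ∣ Nat.card α := by
  classical
  have := Fintype.ofFinite α
  have h1 := Equiv.Perm.card_fixedPoints_modEq (f := (f : Function.End α)) (p := 2) (n := 1)
    (funext hf)
  have : IsEmpty (Function.fixedPoints (f : Function.End α)) := ⟨fun a => h a a.2⟩
  rw [Fintype.card_eq_zero (α := Function.fixedPoints (f : Function.End α))] at h1
  rw [Nat.card_eq_fintype_card]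
  exact (Nat.modEq_zero_iff_dvd).1 h1

end Pair

end H16
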