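import Cfsg.Agent.H16.LA25

/-! Elements of prime order and invariant nondegenerate subspaces. -/

set_option autoImplicit false

namespace H16

open Module Polynomial H23 H23.Form H14.Wall Matrix

universe u v

section Gen

variable {F : Type u} {V : Type*} [Field F] {σ : F →+* F} [AddCommGroup V] [Module F V]
  [FiniteDimensional F V] {Φ : Form σ V} {g : End F V} {r : ℕ}

theorem nd_Tr_iff [Fintype F] (hΦ : Φ.Nondeg) (hr : r.Prime) (hr0 : (r : F) ≠ 0) {b c m : ℕ}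
    (hb : (b = 1 ∧ ∀ a ∈ Tr F r, dual σ a = a) ∨ (b = 2 ∧ ∀ a ∈ Tr F r, dual σ a ≠ a))
    (hc : c = b * orderOf (Fintype.card F : ZMod r)) (h1 : c ≤ finrank F V)
    (h2 : finrank F V % c < m) (hm : m ≤ finrank F V) (Q : End F V → Prop)
    (P : Submodule F V → Prop) (hP : ∀ A, P A → finrank F A = m ∧ (Φ.restrict A).Nondeg)
    (hex : ∀ s, (∀ a ∈ s, a ∈ Tr F r) → s.map (dual σ) = s →
      s.card * orderOf (Fintype.card F : ZMod r) + finrank F V % c = finrank F V →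
      ∃ g, Pres Φ g ∧ Q g ∧ ed g = s + Multiset.replicate (finrank F V % c) (X - C 1))
    (hnd : ∀ g s k ν w, Pres Φ g → Q g → g ^ r = 1 → (∀ a ∈ s, a ∈ Tr F r) →
      ed g = s + Multiset.replicate k (X - C 1) → ν ≤ s → ν.map (dual σ) = ν → w ≤ k →
      ν.card * orderOf (Fintype.card F : ZMod r) + w = m → ∃ A, P A ∧ ∀ x ∈ A, g x ∈ A) :
    (∀ g, Pres Φ g → Q g → g ^ r = 1 → g ≠ 1 → ∃ A, P A ∧ ∀ x ∈ A, g x ∈ A) ↔
      c ≤ m ∧ m % c ≤ finrank F V % c := by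
  have hb0 : 0 < b := by omega
  have hc0 : 0 < c := hc ▸ Nat.mul_pos hb0 (orderOf_card_pos hr hr0)
  constructor
  · intro h
    obtain ⟨s₀, h6, h7, h8, -⟩ := exists_Tr_blocks Φ.invol hr hr0 hb
    have h9 : ∀ a ∈ (finrank F V / c) • s₀, a ∈ Tr F r := fun a ha =>
      h6 a (Multiset.mem_of_mem_nsmul ha)
    obtain ⟨g, hg, hQ, h10⟩ := hex _ h9 (by rw [Multiset.map_nsmul, h7])
      (by rw [Multiset.card_nsmul, h8, mul_assoc, ← hc, Nat.div_add_mod'])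
    obtain ⟨h11, h12⟩ := pow_of_ed_Tr hr h9 (by
      rw [← Multiset.card_pos, Multiset.card_nsmul, h8]
      exact Nat.mul_pos (Nat.div_pos h1 hc0) hb0) h10
    obtain ⟨A, h13, hA⟩ := h g hg hQ h11 h12
    obtain ⟨ν, h14, w, h15, h16, h17, -⟩ := nd_Tr_le hr hr0 hg h9 h10 hA (hP A h13).2
    obtain ⟨N, h18, -⟩ := Tr_blocks Φ.invol hr hb (fun a ha => h9 a (Multiset.mem_of_le h14 ha)) h16
    rw [(hP A h13).1, h18, mul_assoc, ← hc] at h17
    have h19 := mod_le_of_comb h17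
    refine ⟨?_, h19.trans h15⟩
    by_contra h20
    rw [Nat.mod_eq_of_lt (by omega)] at h19; omega
  · rintro ⟨-, h3⟩ g hg hQ h4 -
    obtain ⟨s, k, h5, h6, h7, -, h8⟩ := exists_Tr_ed hr hr0 hΦ hg h4
    obtain ⟨N, h9, h10⟩ := Tr_blocks Φ.invol hr hb h5 h6
    rw [h9, mul_assoc, ← hc] at h7
    obtain ⟨M, h11, w, h12, h13⟩ := (exists_comb_iff hc0 (h7 ▸ hm)).2
      (h3.trans (mod_le_of_comb h7))
    obtain ⟨ν, h14, h15, h16⟩ := h10 M h11
    exact hnd g s k ν w hg hQ h4 h5 h8 h14 h15 h12 (by rw [h16, mul_assoc, ← hc, h13])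

theorem exists_of_mul_eq_qf {Q a b C X N r : ℕ} (hQ : 1 < Q) (hr : r.Prime) (h : r ∣ C)
    (hN : r.Coprime N) (e : C * (X * qf Q b) = N * qf Q (b + a)) :
    ∃ j < a, r ∣ Q ^ (b + a - j) - 1 := by
  rw [qf_add, mul_comm (qf Q b), ← mul_assoc, ← mul_assoc] at e
  obtain ⟨j, h1, h2⟩ := (hr.prime.dvd_finsetProd_iff _).1 (hN.dvd_of_dvd_mul_left
    (Nat.eq_of_mul_eq_mul_right (qf_pos hQ b) e ▸ h.mul_right X))
  exact ⟨j, Finset.mem_range.1 h1, h2⟩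

end Gen

section Alt

variable {F : Type u} {V : Type*} [Field F] [AddCommGroup V] [Module F V]
  [FiniteDimensional F V] {Φ : Form (RingHom.id F) V} {g : End F V}

theorem inv_split [Fintype F] [CharP F 2] (hΦ : Φ.Nondeg) (hκ : Φ.κ = 0) (hg : Pres Φ g)
    (h : g * g = 1) {a b : ℕ} (hV : finrank F V = 2 * (a + b))
    {g₁ : End F (Fin a ⊕ Fin a → F)} {g₂ : End F (Fin b ⊕ Fin b → F)} (h1 : Pres (spForm a F) g₁)
    (h2 : Pres (spForm b F) g₂) (h3 : g₁ * g₁ = 1) (h4 : g₂ * g₂ = 1)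
    (h5 : rkE g₁ + rkE g₂ = rkE g) (h6 : IA (spForm a F) g₁ ∧ IA (spForm b F) g₂ ↔ IA Φ g) :
    ∃ A : Submodule F V, finrank F A = 2 * a ∧ (Φ.restrict A).Nondeg ∧ ∀ x ∈ A, g x ∈ A := by
  have hn := fprod_nondeg (Φ := spForm a F) (Ψ := spForm b F) rfl rfl (spForm_nondeg a)
    (spForm_nondeg b)
  obtain ⟨A, hA, H⟩ := exists_of_iso_prod (spForm_nondeg a) (iso_invol (h := g₁.prodMap g₂) hΦ
    (iso_alt hn hΦ rfl rfl (c2_eps Φ) hκ (by rw [finrank_prod, finrank_sp, finrank_sp, hV, mul_add]))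
    hg (Pres.prodMap _ _ h1 h2) h (by rw [LinearMap.prodMap_mul, h3, h4]; rfl)
    (by rw [rkE_prodMap, h5]) (ia_prodMap.trans h6))
  exact ⟨A, by rw [← H.sim.finrank_eq, finrank_sp], H.nondeg (spForm_nondeg a), hA⟩

theorem inv_nd_iff [Fintype F] [CharP F 2] (hΦ : Φ.Nondeg) (hκ : Φ.κ = 0) {a b : ℕ}
    (hV : finrank F V = 2 * (a + b)) (hb : b ≠ 0) :
    (∀ g, Pres Φ g → (∃ z : F, g ^ 2 = z • (1 : End F V)) → (∀ z : F, g ≠ z • (1 : End F V)) →
      ∃ A : Submodule F V, finrank F A = 2 * a ∧ (Φ.restrict A).Nondeg ∧ ∀ x ∈ A, g x ∈ A) ↔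
      Odd (a + b) ∨ Even a := by
  have : Nontrivial V := Module.nontrivial_of_finrank_pos (R := F) (by omega)
  constructor
  · intro h
    by_contra h1
    rw [not_or, Nat.not_odd_iff_even] at h1
    obtain ⟨g, hg, h2, h3, h4⟩ := exists_inv_alt_a hΦ hκ h1.1 hV.ge
    obtain ⟨A, h5, h6, hA⟩ := h g hg ⟨1, by rw [sq, h2, one_smul]⟩
      (not_scalar_char2 hΦ hg (by omega))
    have h7 := rkE_of_nondeg hΦ hg hA h6
    have h8 : ∀ {A : Submodule F V} (hA : ∀ x ∈ A, g x ∈ A), g.restrict hA * g.restrict hA = 1 :=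
      fun hA => LinearMap.ext fun x => Subtype.ext (congrArg (fun k : End F V => k x) h2)
    have h9 := two_rkE_le h6 (hg.restrict hA) (h8 hA)
    have h10 := two_rkE_le (hΦ.nondeg_restrict_perp (Φ.nondeg_restrict_iff.1 h6))
      (hg.restrict (hg.perp_inv hΦ hA)) (h8 _)
    have h11 := hΦ.finrank_perp_add A
    exact h1.2 ((show rkE (g.restrict hA) = a by omega) ▸ (h4.restrict hA).even h6 (hg.restrict hA))
  · rintro h g hg ⟨z, hz⟩ h1
    have h2 := sq_eq_one_char2 hΦ hg hz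
    have h3 := two_rkE_le hΦ hg h2
    have h4 : rkE g ≠ 0 := fun h => h1 1 (by rw [one_smul, rkE_eq_zero.1 h])
    by_cases h5 : IA Φ g
    · obtain ⟨s, t, h6, h7, h8, h9, h10⟩ : ∃ s t, Even s ∧ Even t ∧ s ≤ a ∧ t ≤ b ∧
          s + t = rkE g := by
        have h6 := Nat.even_iff.1 (h5.even hΦ hg)
        simp only [Nat.even_iff, Nat.odd_iff] at h ⊢
        by_cases h7 : a % 2 = 0
        · exact ⟨min (rkE g) a, rkE g - a, by omega, by omega, by omega, by omega, by omega⟩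
        · exact ⟨rkE g - b, min (rkE g) b, by omega, by omega, by omega, by omega, by omega⟩
      obtain ⟨g₁, a1, a2, a3, a4⟩ := exists_inv_alt_a (spForm_nondeg (F := F) a) rfl h6
        (by rw [finrank_sp]; omega)
      obtain ⟨g₂, b1, b2, b3, b4⟩ := exists_inv_alt_a (spForm_nondeg (F := F) b) rfl h7
        (by rw [finrank_sp]; omega)
      exact inv_split hΦ hκ hg h2 hV a1 b1 a2 b2 (by omega) (iff_of_true ⟨a4, b4⟩ h5)
    · obtain ⟨g₁, a1, a2, a3, -⟩ := exists_inv_alt_b (spForm_nondeg (F := F) a) rfl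
        (s := rkE g - b) (by rw [finrank_sp]; omega)
      obtain ⟨g₂, b1, b2, b3, b4⟩ := exists_inv_alt_b (spForm_nondeg (F := F) b) rfl
        (s := min (rkE g) b) (by rw [finrank_sp]; omega)
      exact inv_split hΦ hκ hg h2 hV a1 b1 a2 b2 (by omega)
        (iff_of_false (fun h => by have := b4.1 h.2; omega) h5)

theorem uni_le_of_nd (p : ℕ) [Fact p.Prime] [CharP F p] {σ : F →+* F} {Φ : Form σ V}
    (hΦ : Φ.Nondeg) (hg : Pres Φ g) {μ : Multiset ℕ} (h : ed g = uni F μ) {A : Submodule F V}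
    (hA : ∀ x ∈ A, g x ∈ A) (hn : (Φ.restrict A).Nondeg) :
    ∃ ν ≤ μ, ν.sum = finrank F A ∧ ed (g.restrict hA) = uni F ν := by
  obtain ⟨ν, h1, h2⟩ := exists_uni_of_le (s := ed (g.restrict hA))
    (h ▸ ed_of_nondeg hΦ hg hA hn ▸ Multiset.le_add_right _ _)
  exact ⟨ν, h1, (finrank_of_uni h2).symm, h2⟩

theorem eps_pow_ne (h2 : (2 : F) ≠ 0) (j : ℕ) : (-1 : F) * (-1) ^ j ≠ 1 ↔ Odd (j + 1) := by
  rw [← pow_succ', ne_eq, neg_one_pow_eq_one_iff_even (fun h => h2 (by linear_combination -h)),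
    Nat.not_even_iff_odd]

theorem unip_nd_alt_iff [Finite F] (p : ℕ) [hp : Fact p.Prime] [CharP F p] (h2 : (2 : F) ≠ 0)
    (hΦ : Φ.Nondeg) (hε : Φ.ε = -1) (hκ : Φ.κ = 0) {m : ℕ} (hm : Even m) (hV : m ≤ finrank F V) :
    (∀ g, Pres Φ g → g ^ p = 1 → g ≠ 1 →
      ∃ A : Submodule F V, finrank F A = m ∧ (Φ.restrict A).Nondeg ∧ ∀ x ∈ A, g x ∈ A) ↔
      ∀ μ : Multiset ℕ, (∀ a ∈ μ, 0 < a ∧ a ≤ p) → (∀ a, Odd a → Even (μ.count a)) →
        μ.sum = finrank F V → ∃ ν ≤ μ, ν.sum = m ∧ ∀ a, Odd a → Even (ν.count a) := by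
  have key : ∀ {W : Type _} [AddCommGroup W] [Module F W] [FiniteDimensional F W]
      {Ψ : Form (RingHom.id F) W} {h : End F W} {ν}, Ψ.Nondeg → Ψ.ε = -1 → Pres Ψ h →
      ed h = uni F ν → ∀ a, Odd a → Even (ν.count a) := by
    intro W _ _ _ Ψ h ν h3 h4 h5 h6 a ha
    obtain ⟨j, rfl⟩ : ∃ j, a = j + 1 := ⟨a - 1, by have := ha.pos; omega⟩
    exact even_count_uni h2 h3 h5 h6 (h4 ▸ (eps_pow_ne h2 j).2 ha)
  constructor
  · intro h μ h3 h4 h5
    by_cases h6 : ∀ a ∈ μ, a = 1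
    · obtain ⟨k, rfl⟩ : ∃ k, μ = Multiset.replicate k 1 := ⟨_, Multiset.eq_replicate_card.2 h6⟩
      refine ⟨Multiset.replicate m 1, (Multiset.replicate_le_replicate _).2 (by simpa [← h5] using hV),
        by simp, fun a _ => ?_⟩
      rw [Multiset.count_replicate]
      split_ifs
      · exact hm
      · exact Even.zero
    push Not at h6
    obtain ⟨a, h7, h8⟩ := h6
    obtain ⟨g, hg, h9⟩ := RS.exists_alt hΦ hε hκ (real_alt (fun a ha => (h3 a ha).1) h4)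
      (by rw [uni_natDegree, h5])
    obtain ⟨A, h10, h11, hA⟩ := h g hg (pow_of_ed_uni p h9 fun a ha => (h3 a ha).2)
      (by simpa using not_scalar_of_uni h9 h7 h8 1)
    obtain ⟨ν, h12, h13, h14⟩ := uni_le_of_nd p hΦ hg h9 hA h11
    exact ⟨ν, h12, h13.trans h10, key h11 hε (hg.restrict hA) h14⟩
  · intro h g hg h3 _
    obtain ⟨μ, h4, h5, h6⟩ := ed_uni_of_pow p h3
    obtain ⟨ν, h7, h8, h9⟩ := h μ h4 (key hΦ hε hg h6) h5
    obtain ⟨A, hA, h10, h11⟩ := unip_nd h2 hΦ hg (ν := ν)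
      (fun a ha => (h4 a (Multiset.mem_of_le h7 ha)).1)
      (fun j hj => h9 _ ((eps_pow_ne h2 j).1 (hε ▸ hj))) (h6 ▸ Multiset.map_le_map h7)
    exact ⟨A, (finrank_of_uni h11).trans h8, h10, hA⟩

end Alt

section PP

variable {F : Type u} {V W : Type*} [Field F] {σ : F →+* F} [AddCommGroup V] [Module F V]
  [AddCommGroup W] [Module F W] {Φ : Form σ V} {Ψ : Form σ W} {g : End F V} {h : End F W} {r : ℕ}

/-- `g` stabilises a pair of complementary totally singular subspaces. -/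
def PP (Φ : Form σ V) (g : End F V) : Prop :=
  ∃ A B : Submodule F V, IsCompl A B ∧ Φ.TotSing A ∧ Φ.TotSing B ∧
    ((A.map g = A ∧ B.map g = B) ∨ (A.map g = B ∧ B.map g = A))

theorem ts_iff (hκ : Φ.κ = 0) {A : Submodule F V} :
    Φ.TotSing A ↔ ∀ u ∈ A, ∀ v ∈ A, Φ.B u v = 0 :=
  ⟨fun h => h.1, fun h => ⟨h, fun v _ => H22.Q_eq_zero_of_κ _ hκ v⟩⟩

theorem map_map_of_comm {e : W →ₗ[F] V} (he : ∀ x, e (h x) = g (e x)) (A : Submodule F W) :
    (A.map e).map g = (A.map h).map e := by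
  rw [← Submodule.map_comp, ← Submodule.map_comp]
  congr 1
  exact LinearMap.ext fun x => (he x).symm

theorem PP.of_smul {c : F} (hc : c ≠ 0) (H : PP Φ (c • g)) : PP Φ g := by
  obtain ⟨A, B, h⟩ := H
  exact ⟨A, B, by simpa only [Submodule.map_smul _ _ _ hc] using h⟩

theorem pp_swap {ι : Type*} [Fintype ι] (Φ : Form σ V) {a b : F} (ha : a ≠ 0) (hb : b ≠ 0) :
    PP (hypF Φ ι) ((a • LinearMap.snd F _ _).prod (b • LinearMap.fst F _ _)) := by
  refine ⟨_, _, LinearMap.isCompl_range_inl_inr, ⟨?_, ?_⟩, ⟨?_, ?_⟩, Or.inr ⟨?_, ?_⟩⟩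
  · rintro _ ⟨x, rfl⟩ _ ⟨y, rfl⟩; simp [hypF_B, Function.comp_def]
  · rintro _ ⟨x, rfl⟩; simp [hypF_Q]
  · rintro _ ⟨x, rfl⟩ _ ⟨y, rfl⟩; simp [hypF_B, Function.comp_def]
  · rintro _ ⟨x, rfl⟩; simp [hypF_Q, Function.comp_def]
  · refine le_antisymm ?_ ?_
    · rintro _ ⟨_, ⟨x, rfl⟩, rfl⟩; exact ⟨b • x, by simp⟩
    · rintro _ ⟨x, rfl⟩; exact ⟨_, ⟨b⁻¹ • x, rfl⟩, by simp [hb]⟩
  · refine le_antisymm ?_ ?_
    · rintro _ ⟨_, ⟨x, rfl⟩, rfl⟩; exact ⟨a • x, by simp⟩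
    · rintro _ ⟨x, rfl⟩; exact ⟨_, ⟨a⁻¹ • x, rfl⟩, by simp [ha]⟩

variable [FiniteDimensional F V] [FiniteDimensional F W]

omit [FiniteDimensional F V] [FiniteDimensional F W] in
theorem PP.of_iso (H : Iso Ψ h Φ g) (hP : PP Ψ h) : PP Φ g := by
  obtain ⟨e, e1, e2, e3⟩ := H
  obtain ⟨A, B, h1, h2, h3, h4⟩ := hP
  refine ⟨_, _, (Submodule.orderIsoMapComap e).isCompl h1, totSing_map_equiv e e1 e2 h2,
    totSing_map_equiv e e1 e2 h3, ?_⟩
  change ((A.map e.toLinearMap).map g = A.map e.toLinearMap ∧ (B.map e.toLinearMap).map g =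
    B.map e.toLinearMap) ∨ ((A.map e.toLinearMap).map g = B.map e.toLinearMap ∧
      (B.map e.toLinearMap).map g = A.map e.toLinearMap)
  rw [map_map_of_comm (e := e.toLinearMap) e3, map_map_of_comm (e := e.toLinearMap) e3]
  rcases h4 with ⟨h4, h5⟩ | ⟨h4, h5⟩ <;> simp [h4, h5]

theorem map_eq_of_inv (hi : Function.Injective g) {A : Submodule F V} (hA : ∀ x ∈ A, g x ∈ A) :
    A.map g = A :=
  Submodule.eq_of_le_of_finrank_le (map_le_iff_inv.2 hA)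
    (LinearEquiv.finrank_eq (Submodule.equivMapOfInjective g hi A)).le

theorem pp_of_uq (hΦ : Φ.Nondeg) (hg : Pres Φ g) (hU : Uq Φ g) {s : Multiset F[X]}
    (h : ed g = s + s.map (dual σ)) : PP Φ g := by
  have h1 : ∀ q ∈ s, q ∈ ed g := fun q hq => by simp [h, hq]
  obtain ⟨A, B, hA, hB, h2, h3, h4, h5, h6⟩ := hU.exists_ts (fun q hq => ed_isPP (h1 q hq))
    (fun q hq => ed_coeff_ne hΦ hg q (h1 q hq)) (rs_zero Φ) (h.trans (add_zero _).symm)
  refine ⟨A, B, (Submodule.isCompl_iff_disjoint A B ?_).2 h4, h2, h3,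
    Or.inl ⟨map_eq_of_inv (hg.inj hΦ) hA, map_eq_of_inv (hg.inj hΦ) hB⟩⟩
  rw [h6, finrank_eq_sum_ed hA, h5, ← sum_natDegree_ed g, h, Multiset.map_add, Multiset.sum_add,
    Multiset.map_map]
  refine (congrArg _ (congrArg _ (Multiset.map_congr rfl fun q hq => ?_))).le
  exact (natDegree_dual σ (ed_coeff_ne hΦ hg q (h1 q hq)))

theorem PP.ed_eq [Nontrivial V] (hΦ : Φ.Nondeg) (hg : Pres Φ g) (hr : Odd r) {z : F} (hz : z ≠ 0)
    (h : g ^ r = z • (1 : End F V)) (H : PP Φ g) : ∃ s, ed g = s + s.map (dual σ) := by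
  obtain ⟨A, B, h1, h2, h3, ⟨h4, h5⟩ | ⟨h4, h5⟩⟩ := H
  · exact ⟨_, ed_of_polar hΦ hg (map_le_iff_inv.1 h4.le) (map_le_iff_inv.1 h5.le) h1 h2.1 h3.1⟩
  obtain ⟨k, rfl⟩ := hr
  have h6 : ∀ k, A.map (g ^ (2 * k + 1)) = B := fun k => by
    induction k with
    | zero => simpa using h4
    | succ k ih =>
      rw [show 2 * (k + 1) + 1 = 2 * k + 1 + 1 + 1 by ring, pow_succ', pow_succ', End.mul_eq_comp,
        End.mul_eq_comp, Submodule.map_comp, Submodule.map_comp, ih, h5, h4]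
  have h7 := h6 k
  rw [h, Submodule.map_smul _ _ _ hz, End.one_eq_id, Submodule.map_id] at h7
  subst h7
  exact absurd (h1.sup_eq_top.symm.trans ((sup_idem _).trans ((inf_idem _).symm.trans
    h1.inf_eq_bot))) top_ne_bot

theorem qf_sq (q d : ℕ) : qf (q ^ 2) d = qf q d * ∏ j ∈ Finset.range d, (q ^ (j + 1) + 1) := by
  rw [qf, qf, ← Finset.prod_mul_distrib]
  refine Finset.prod_congr rfl fun j _ => ?_
  rw [← pow_mul, mul_comm 2, pow_mul, mul_comm, ← Nat.sq_sub_sq, one_pow]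

theorem dvd_card_pair [Finite F] [Nontrivial V] (Φ : Form σ V) (h : r ∣ Nat.card
    {P : Submodule F V × Submodule F V // IsCompl P.1 P.2 ∧ Φ.TotSing P.1 ∧ Φ.TotSing P.2} / 2) :
    r ∣ Nat.card {P : Submodule F V × Submodule F V // IsCompl P.1 P.2 ∧ Φ.TotSing P.1 ∧
      Φ.TotSing P.2} := by
  have : Finite V := finite_of_fd (F := F)
  have : Finite (Submodule F V) := Finite.of_injective _ SetLike.coe_injective
  refine h.trans (Nat.div_dvd_of_dvd (even_card_of_invol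
    (fun P => ⟨P.1.swap, P.2.1.symm, P.2.2.2, P.2.2.1⟩) (fun _ => rfl) ?_))
  rintro ⟨⟨A, B⟩, h1, h3⟩ h2
  obtain rfl : B = A := congrArg Prod.fst (congrArg Subtype.val h2)
  exact absurd (h1.sup_eq_top.symm.trans ((sup_idem _).trans ((inf_idem _).symm.trans
    h1.inf_eq_bot))) top_ne_bot

end PP

section OD2

variable {F : Type u} {V : Type*} [Field F] {σ : F →+* F} [AddCommGroup V] [Module F V]
  [FiniteDimensional F V] {Φ : Form σ V} {g : End F V} {r a t : ℕ}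

omit [FiniteDimensional F V] in
theorem od_of_uq [Fact r.Prime] (hU : Uq Φ g) {Ψ : Form σ (Fin a → F)} (hΨ : Ψ.Nondeg)
    (hε : Ψ.ε = Φ.ε) (hκ : Ψ.κ = Φ.κ) {u w : ℕ} {B : Fin w → End F (Fin a → F)}
    (hB : ∀ j, Pres Ψ (B j)) (h : ed g = (u * a) • ppf (X ^ r - C 1) + ∑ j, ed (B j))
    (ht : t = u * r + w) : OD Φ g a (Fin t) :=
  od_of_iso hΨ hB (hU _ _ _ (piF_nondeg hΨ) hε hκ (pres_mg hB) (by rw [ed_mg, h])) ht

theorem exists_alt_fin (F : Type u) [Field F] (ha : Even a) :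
    ∃ Ψ : Form (RingHom.id F) (Fin a → F), Ψ.Nondeg ∧ Ψ.ε = -1 ∧ Ψ.κ = 0 := by
  obtain ⟨b, rfl⟩ := ha
  obtain ⟨Ψ, -, h1, h2, h3, -⟩ := exists_transport (W := Fin (b + b) → F) (spForm_nondeg (F := F) b)
    (pres_one _) (by rw [finrank_sp]; simp; omega)
  exact ⟨Ψ, h1, h2, h3⟩

theorem od_alt [Finite F] {Φ : Form (RingHom.id F) V} (hΦ : Φ.Nondeg) (hε : Φ.ε = -1)
    (hκ : Φ.κ = 0) (hg : Pres Φ g) (hs : SS g) (ha : Even a) {s : Fin t → Multiset F[X]}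
    (h1 : ∀ j, AS (s j)) (h2 : ∀ j, ((s j).map natDegree).sum = a) (h : ed g = ∑ j, s j) :
    OD Φ g a (Fin t) := by
  obtain ⟨Ψ, h3, h4, h5⟩ := exists_alt_fin F ha
  choose B hB h6 using fun j => exists_alt_of_as h3 h4 h5 (ss_le hΦ hg hs
    (h ▸ Finset.single_le_sum (f := s) (fun _ _ => Multiset.zero_le _) (Finset.mem_univ j))) (h1 j)
    (by simp [h2])
  exact od_of_uq (r := 2) (u := 0) (uq_alt hΦ hε hκ hg hs) h3 (h4.trans hε.symm) (h5.trans hκ.symm)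
    hB (by simp [h6, h]) (by simp)

theorem Tr_split (hσ : ∀ a, σ (σ a) = a) (hr : r.Prime) {b : ℕ}
    (hb : (b = 1 ∧ ∀ a ∈ Tr F r, dual σ a = a) ∨ (b = 2 ∧ ∀ a ∈ Tr F r, dual σ a ≠ a)) (t : ℕ) :
    ∀ (f : Fin t → ℕ) (s : Multiset F[X]), (∀ a ∈ s, a ∈ Tr F r) → s.map (dual σ) = s →
      s.card = (∑ j, f j) * b → ∃ ν : Fin t → Multiset F[X], s = ∑ j, ν j ∧
        ∀ j, (ν j).map (dual σ) = ν j ∧ (ν j).card = f j * b := by
  induction t with
  | zero => intro f s _ _ h; exact ⟨fun _ => 0, by simpa using h, fun j => j.elim0⟩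
  | succ t ih =>
    intro f s h1 h2 h3
    obtain ⟨N, h4, h5⟩ := Tr_blocks hσ hr hb h1 h2
    rw [Fin.sum_univ_succ] at h3
    obtain ⟨ν, h6, h7, h8⟩ := h5 (f 0) (by
      have := Nat.eq_of_mul_eq_mul_right (by omega) (h3.symm.trans h4); omega)
    obtain ⟨s', rfl⟩ := Multiset.le_iff_exists_add.1 h6
    rw [Multiset.map_add, h7] at h2
    obtain ⟨ν', h9, h10⟩ := ih (fun j => f j.succ) s' (fun a ha => h1 a (by simp [ha]))
      (add_left_cancel h2) (by rw [Multiset.card_add, h8, add_mul] at h3; omega)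
    exact ⟨Fin.cons ν ν', by simp [Fin.sum_univ_succ, h9], Fin.forall_fin_succ.2 ⟨⟨h7, h8⟩, h10⟩⟩

theorem OD.blocks [Fintype F] [hr : Fact r.Prime] (hr0 : (r : F) ≠ 0) {b : ℕ}
    (hb : (b = 1 ∧ ∀ a ∈ Tr F r, dual σ a = a) ∨ (b = 2 ∧ ∀ a ∈ Tr F r, dual σ a ≠ a))
    (hg : Pres Φ g) (h1 : g ^ r = 1) {s : Multiset F[X]} (hs : ∀ a ∈ s, a ∈ Tr F r) {k : ℕ}
    (h : ed g = s + Multiset.replicate k (X - C 1)) (ha : a ≠ 0) (H : OD Φ g a (Fin t)) :
    (a ≤ k ∧ ∀ f ∈ Tr F r, Multiset.replicate a f ≤ s) ∨ ∃ N w : Fin t → ℕ,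
      (∀ j, N j * (b * orderOf (Fintype.card F : ZMod r)) + w j = a) ∧ ∑ j, w j = k := by
  classical
  obtain ⟨D, π, h2, h3, -⟩ := H
  rcases h2.one_or_le one_ne_zero (by simpa using h1) ha with rfl | h4
  · choose ν h4 w _ h5 h6 h7 using fun j => nd_Tr_le hr.out hr0 hg hs h (h2.inv j) (h3 j)
    have h8 : ∀ j, ∀ a ∈ ν j, a ∈ Tr F r := fun j a ha => hs a (Multiset.mem_of_le (h4 j) ha)
    choose N h9 _ using fun j => Tr_blocks Φ.invol hr.out hb (h8 j) (h5 j)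
    refine Or.inr ⟨N, w, fun j => by rw [← mul_assoc, ← h9, h6, h2.fr], ?_⟩
    have := congrArg (Multiset.count (X - C 1)) (ed_of_decomp h2.indep h2.top h2.inv)
    simpa [h, h7, Multiset.count_sum', Multiset.count_eq_zero.2 (one_notMem_Tr hr.out hs),
      fun j => Multiset.count_eq_zero.2 (one_notMem_Tr hr.out (h8 j)), -map_one] using this.symm
  obtain ⟨T, h5, -, h6, -⟩ := ppf_X_pow_sub_one hr.out hr0
  rw [h5, h, Multiset.nsmul_cons, Multiset.nsmul_singleton, add_comm,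
    add_rep_le_iff (one_notMem_Tr hr.out fun a ha => (h6 a).1 (Multiset.mem_of_mem_nsmul ha))
      (one_notMem_Tr hr.out hs)] at h4
  refine Or.inl ⟨h4.2, fun f hf => le_trans ?_ h4.1⟩
  rw [← Multiset.nsmul_singleton]
  exact nsmul_le_nsmul_right (Multiset.singleton_le.2 ((h6 f).2 hf)) a

theorem od_iff {n : Type} [Fintype n] {Φ : Form σ (n → F)} {g : End F (n → F)} (ha : 0 < a)
    (ht : 2 ≤ t) : (∃ D : Fin t → Submodule F (n → F), (Cfsg.Geo.IsMDecomposition a D ∧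
      (∀ j, ∀ u ∈ D j, u ≠ 0 → ∃ v ∈ D j, Φ.B u v ≠ 0) ∧
      ∀ j j', j ≠ j' → ∀ u ∈ D j, ∀ v ∈ D j', Φ.B u v = 0) ∧
      ∃ π : Equiv.Perm (Fin t), ∀ j, (D j).map g = D (π j)) ↔ OD Φ g a (Fin t) :=
  ⟨fun ⟨D, ⟨h1, h2, h3⟩, π, h4⟩ => ⟨D, π, ⟨h1.finrank_eq, h1.indep, h1.iSup_eq_top, h4⟩,
    fun j => nondeg_restrict_iff'.2 (h2 j), h3⟩, fun ⟨D, π, h1, h2, h3⟩ =>
      ⟨D, ⟨⟨ht, ha, h1.fr, h1.indep, h1.top⟩, fun j => nondeg_restrict_iff'.1 (h2 j), h3⟩, π, h1.map⟩⟩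

variable {M : Type*} [AddCommGroup M] [Module F M] {u w : ℕ}

theorem mg_two_sq {B : Fin w → End F M} (hB : ∀ j, B j * B j = 1) :
    mg (r := 2) u (1 : F) B * mg u 1 B = 1 := by
  refine LinearMap.ext fun v => funext ?_
  rintro (⟨j, i⟩ | j)
  · have : i - 1 - 1 = i := by revert i; decide
    simp [mg_inl, this]
  · simpa [mg_inr] using congrArg (fun k : End F M => k (v (.inr j))) (hB j)

theorem ia_mg [Fintype F] [CharP F 2] [FiniteDimensional F M] {Ψ : Form (RingHom.id F) M} {B : Fin w → End F M} :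
    IA (piF Ψ (MI u 2 w)) (mg u (1 : F) B) ↔ ∀ j, IA Ψ (B j) := by
  classical
  refine ⟨fun h j x => ?_, fun h x => ?_⟩
  · simpa [piF_single, mg_inr] using h (Pi.single (.inr j) x)
  rw [piF_B, Fintype.sum_sum_type, Fintype.sum_prod_type, Finset.sum_eq_zero, Finset.sum_eq_zero,
    add_zero]
  · exact fun j _ => h j _
  · intro j _
    rw [show (Finset.univ : Finset (ZMod 2)) = {0, 1} from rfl, Finset.sum_pair zero_ne_one]
    simp only [mg_inl, ite_self, one_smul, sub_self, show (0 : ZMod 2) - 1 = 1 from rfl]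
    rw [c2_symm, CharTwo.add_self_eq_zero]

theorem rkE_mg [CharP F 2] (B : Fin w → End F (Fin a → F)) :
    rkE (mg (r := 2) u (1 : F) B) = u * a + ∑ j, rkE (B j) := by
  have h1 := rkE_add_kd (mg (r := 2) u (1 : F) B)
  have h2 := Finset.sum_congr rfl fun j (_ : j ∈ Finset.univ) => rkE_add_kd (B j)
  have h3 := ppf_char (F := F) 2 1
  rw [one_pow] at h3
  rw [kd_eq_sum, ed_mg, h3, Multiset.map_add, Multiset.sum_add, sum_map_finsetSum,
    Multiset.nsmul_singleton, Multiset.map_replicate, gd_of_dvd' (dvd_pow_self _ two_ne_zero),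
    natDegree_X_sub_C] at h1
  simp only [← kd_eq_sum] at h1
  simp [Finset.sum_add_distrib, Module.finrank_pi_fintype, -map_one] at h1 h2
  nlinarith

end OD2

end H16
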