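import Cfsg.Agent.H16.LA26
import Cfsg.Agent.H14.Wall12

/-! Subgroups of `GL` given by forms; elements of prime order of unitary groups. -/

set_option autoImplicit false

namespace H16

open Module Polynomial H23 H23.Form H14.Wall Matrix

universe u v

section GLsub

variable {ι : Type} [Fintype ι] [DecidableEq ι] {F : Type u} [Field F] {σ : F →+* F}
  {Φ : Form σ (ι → F)} {r : ℕ} {G H : Subgroup (GL ι F)}

theorem exists_GL_of_inj {g : End F (ι → F)} (hg : Function.Injective g) :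
    ∃ x : GL ι F, toLin' x.1 = g :=
  ⟨(glE ι F).symm (LinearEquiv.ofInjectiveEndo g hg), by rw [glE_symm_coe, toLin'_toMatrix']; rfl⟩

theorem gl_forall_iff {C : End F (ι → F) → Prop} (hG : ∀ x : GL ι F, x ∈ G ↔ C (toLin' x.1))
    (hC : ∀ g, C g → Function.Injective g) {R : GL ι F → Prop} (P : End F (ι → F) → Prop)
    (hR : ∀ x ∈ G, R x ↔ P (toLin' x.1)) :
    (∀ x ∈ G, (∃ z : F, (x ^ r).1 = z • (1 : Matrix ι ι F)) →
      (∀ z : F, x.1 ≠ z • (1 : Matrix ι ι F)) → R x) ↔ ∀ g, C g →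
      (∃ z : F, g ^ r = z • (1 : End F _)) → (∀ z : F, g ≠ z • (1 : End F _)) → P g := by
  have h1 : ∀ (x : GL ι F) (z : F), (x ^ r).1 = z • (1 : Matrix ι ι F) ↔
      toLin' x.1 ^ r = z • (1 : End F _) := fun x z => by
    rw [← toLin'_eq_smul_iff, Units.val_pow_eq_pow_val, toLin'_pow]
  refine ⟨fun h g hg h2 h3 => ?_, fun h x hx h2 h3 => (hR x hx).2 (h _ ((hG x).1 hx)
    (by simpa only [h1] using h2) fun z e => h3 z ((toLin'_eq_smul_iff _ _).1 e))⟩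
  obtain ⟨x, rfl⟩ := exists_GL_of_inj (hC g hg)
  exact (hR x ((hG x).2 hg)).1 (h x ((hG x).2 hg) (by simpa only [h1] using h2)
    fun z e => h3 z ((toLin'_eq_smul_iff _ _).2 e))

theorem conj_eq_iff {g x y : GL ι F} :
    g⁻¹ * x * g = y ↔ ∀ v, toLin' g.1 (toLin' y.1 v) = toLin' x.1 (toLin' g.1 v) := by
  rw [mul_assoc, inv_mul_eq_iff_eq_mul, eq_comm, Units.ext_iff, ← toLin'.injective.eq_iff,
    Units.val_mul, Units.val_mul, toLin'_mul, toLin'_mul, LinearMap.ext_iff]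
  rfl

theorem conj_mem_iff (hG : ∀ x : GL ι F, x ∈ G ↔ Pres Φ (toLin' x.1)) {x : GL ι F} (hx : x ∈ G) :
    (∃ g ∈ G, g⁻¹ * x * g ∈ H) ↔
      ∃ y ∈ H, Pres Φ (toLin' y.1) ∧ Iso Φ (toLin' y.1) Φ (toLin' x.1) := by
  refine ⟨fun ⟨g, hg, h⟩ => ⟨_, h, (hG _).1 (mul_mem (mul_mem (inv_mem hg) hx) hg), glE ι F g,
    ((hG g).1 hg).B, ((hG g).1 hg).Q, conj_eq_iff.1 rfl⟩, ?_⟩
  rintro ⟨y, hy, -, e, h1, h2, h3⟩
  obtain ⟨g, rfl⟩ := (glE ι F).surjective e
  exact ⟨g, (hG g).2 ⟨h1, h2⟩, conj_eq_iff.2 h3 ▸ hy⟩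

theorem card_eq_O (hG : ∀ x : GL ι F, x ∈ G ↔ Pres Φ (toLin' x.1)) : Nat.card G = Nat.card Φ.O :=
  Nat.card_congr ((glE ι F).toEquiv.subtypeEquiv fun x =>
    (hG x).trans ⟨fun h => ⟨h.B, h.Q⟩, fun h => ⟨h.1, h.2⟩⟩)

theorem mem_spGL_pres {d : ℕ} (x : GL (Fin d ⊕ Fin d) F) :
    x ∈ Cfsg.spGL d F ↔ Pres (spForm d F) (toLin' x.1) :=
  mem_spGL_iff.trans ⟨fun h => ⟨h.1, h.2⟩, fun h => ⟨h.B, h.Q⟩⟩

theorem relIndex_mul_card {Γ : Type*} [Group Γ] (G H : Subgroup Γ) :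
    H.relIndex G * Nat.card (H ⊓ G : Subgroup Γ) = Nat.card G := by
  rw [← Subgroup.inf_relIndex_right, ← Nat.card_congr
    (Subgroup.subgroupOfEquivOfLe (inf_le_right : H ⊓ G ≤ G)).toEquiv]
  exact Subgroup.index_mul_card _

end GLsub

section Quad

variable {F : Type u} {V : Type*} [Field F] [Fintype F] [AddCommGroup V] [Module F V]
  [FiniteDimensional F V] {Φ : Form (RingHom.id F) V}

theorem exists_max_ts (hΦ : Φ.Nondeg) (hκ : Φ.κ = 1) : ∃ W, Φ.TotSing W ∧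
    (∀ U, Φ.TotSing U → finrank F U ≤ finrank F W) ∧ finrank F V ≤ 2 * finrank F W + 2 := by
  obtain ⟨W, -, hW, hmax⟩ := Φ.exists_maximal_totSing totSing_bot
  refine ⟨W, hW, fun U hU => ?_, ?_⟩
  · by_contra h
    obtain ⟨g, hg, h1⟩ := hΦ.exists_map_le hW hU (by omega)
    have := hmax (U.map g⁻¹.toLinearMap) (fun u hu => ⟨g u, h1 ⟨u, hu, rfl⟩, g.symm_apply_apply u⟩)
      (hU.map (inv_mem hg))
    rw [← this, LinearEquiv.finrank_map_eq] at h
    exact h le_rfl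
  by_contra h
  obtain ⟨D, h1, h2, h3, -⟩ := card_ts_mul hΦ hW rfl (d := finrank F V - 2 * finrank F W) (by omega)
  obtain ⟨e, h4, h5⟩ := H22.exists_sing_of_three_le h2 hκ (by omega)
  obtain ⟨y, hy⟩ := h2.exists_ne h5
  exact one_ne_zero (hy.symm.trans
    ((mem_perp _).1 (h1 y.2) _ (mem_of_maximal_totSing hW hmax (h1 e.2) h4.1 h4.2)))

theorem card_O_minus (hΦ : Φ.Nondeg) (hκ : Φ.κ = 1) {m : ℕ} (hV : finrank F V = 2 * (m + 1))
    (h : ¬ IsPlus Φ (m + 1)) : Nat.card Φ.O = 2 * Fintype.card F ^ ((m + 1) * m) *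
      (Fintype.card F ^ (m + 1) + 1) * ∏ i ∈ Finset.range m, (Fintype.card F ^ (2 * (i + 1)) - 1) := by
  obtain ⟨a, b, hab⟩ := exists_aniso F
  obtain ⟨-, e, -⟩ := (iso_minus_of_not_isPlus hΦ hκ hV h hab).exists_mulEquiv
  rw [Nat.card_congr e.toEquiv, H22.card_O_qMinus m hab]

end Quad

section Scal

variable {F : Type u} {V : Type*} [Field F] [AddCommGroup V] [Module F V] [FiniteDimensional F V]
  {g : End F V} {r : ℕ}

theorem val_two_pow_mul (e : ℕ) {l : ℕ} (h : Odd l) : padicValNat 2 (2 ^ e * l) = e := by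
  rw [padicValNat.mul (by simp) h.pos.ne', padicValNat.prime_pow, padicValNat.eq_zero_of_not_dvd
    (n := l) (by have := Nat.odd_iff.1 h; omega), add_zero]

theorem eq_one_of_coprime {M : Type*} [Monoid M] {c : M} {a b : ℕ} (h : a.Coprime b) (h1 : c ^ a = 1)
    (h2 : c ^ b = 1) : c = 1 := by
  have := pow_gcd_eq_one.2 ⟨h1, h2⟩
  rwa [h, pow_one] at this

theorem val_lt_of_pow_eq_neg_one (h2 : (2 : F) ≠ 0) {a : F} {m k : ℕ} (hm : m ≠ 0) (hk : k ≠ 0)
    (h1 : a ^ m = -1) (h : a ^ k = 1) : padicValNat 2 m < padicValNat 2 k := by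
  by_contra h3
  obtain ⟨e, l, h4, rfl⟩ := Nat.exists_eq_two_pow_mul_odd hk
  rw [val_two_pow_mul e h4, not_lt, ← padicValNat_dvd_iff_le hm] at h3
  obtain ⟨t, rfl⟩ := h3
  have : (a ^ (2 ^ e * t)) ^ l = (a ^ (2 ^ e * l)) ^ t := by rw [← pow_mul, ← pow_mul]; ring_nf
  rw [h1, h, one_pow, h4.neg_one_pow] at this
  exact h2 (by linear_combination -this)

theorem exists_pow_eq_neg_one [Fintype F] {m : ℕ} (hm : m ≠ 0)
    (h : 2 ^ (padicValNat 2 m + 1) ∣ Fintype.card F - 1) :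
    ∃ c : F, c ^ 2 ^ (padicValNat 2 m + 1) = 1 ∧ c ^ m = -1 := by
  obtain ⟨c, -, hc⟩ := exists_orderOf_eq (F := F) h
  refine ⟨c, hc ▸ pow_orderOf_eq_one c, ?_⟩
  obtain ⟨e, l, h4, rfl⟩ := Nat.exists_eq_two_pow_mul_odd hm
  rw [val_two_pow_mul e h4] at hc
  have h1 : c ^ 2 ^ e * c ^ 2 ^ e = 1 := by rw [← pow_add, ← two_mul, ← pow_succ', ← hc]; simp
  rw [pow_mul, (mul_self_eq_one_iff.1 h1).resolve_left fun h => ?_, h4.neg_one_pow]
  have := Nat.le_of_dvd (by positivity) (hc ▸ orderOf_dvd_of_pow_eq_one h)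
  rw [pow_succ] at this
  have : 0 < 2 ^ e := by positivity
  omega

theorem orderOf_eq_two_iff_dvd {q : ℕ} (hr : r.Prime) (hr2 : r ≠ 2) :
    orderOf (q : ZMod r) = 2 ↔ r ∣ q + 1 := by
  have := Fact.mk hr
  have : Fact (2 < r) := ⟨lt_of_le_of_ne hr.two_le (Ne.symm hr2)⟩
  rw [← ZMod.natCast_eq_zero_iff, Nat.cast_succ, ← eq_neg_iff_add_eq_zero]
  refine ⟨fun h => by simpa using pow_half_eq_neg_one (t := 1) h one_ne_zero, fun h => ?_⟩
  rw [h, orderOf_neg_one, ZMod.ringChar_zmod_n, if_neg hr2]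

theorem lin_ne_neg (h2 : (2 : F) ≠ 0) {c : F} (hc : c ≠ 0) : (X - C c : F[X]) ≠ X - C (-c) :=
  fun e => hc ((mul_eq_zero.1 (show 2 * c = 0 by
    linear_combination C_injective (sub_right_injective e))).resolve_left h2)

theorem not_scalar_of_ne {a b : F[X]} (h : a ≠ b) (ha : a ∈ ed g) (hb : b ∈ ed g) (z : F) :
    g ≠ z • (1 : End F V) := by
  rintro rfl
  rw [ed_scalar] at ha hb
  exact h ((Multiset.eq_of_mem_replicate ha).trans (Multiset.eq_of_mem_replicate hb).symm)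

omit [FiniteDimensional F V] in
theorem restrict_pow_eq {A : Submodule F V} (hA : ∀ x ∈ A, g x ∈ A) {z : F}
    (h : g ^ r = z • (1 : End F V)) : g.restrict hA ^ r = z • (1 : End F A) := by
  rw [Module.End.pow_restrict]
  exact LinearMap.ext fun x => Subtype.ext (congrArg (fun k : End F V => k x) h)

theorem det_of_lin {a b : ℕ} {c d : F}
    (h : ed g = Multiset.replicate a (X - C c) + Multiset.replicate b (X - C d)) :
    LinearMap.det g = c ^ a * d ^ b := by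
  rw [det_eq_prod_ed, ← sum_natDegree_ed g, h]
  simp only [Multiset.map_add, Multiset.map_replicate, natDegree_X_sub_C, Multiset.sum_add,
    Multiset.sum_replicate, smul_eq_mul, mul_one, coeff_sub, coeff_X_zero, coeff_C_zero, zero_sub,
    Multiset.prod_add, Multiset.prod_replicate]
  rw [pow_add, mul_mul_mul_comm, ← mul_pow, ← mul_pow]; simp

theorem det_of_nonsplit {k : ℕ} {z : F} (hr : Odd r) (h : ed g = Multiset.replicate k (X ^ r - C z)) :
    LinearMap.det g = z ^ k := by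
  rw [det_eq_prod_ed, ← sum_natDegree_ed g, h]
  simp only [Multiset.map_replicate, natDegree_X_pow_sub_C, Multiset.sum_replicate, smul_eq_mul,
    Multiset.prod_replicate, coeff_sub, coeff_X_pow, hr.pos.ne, if_false, coeff_C_zero, zero_sub]
  rw [mul_comm k, pow_mul, ← mul_pow, hr.neg_one_pow]; simp

theorem det_pow_of {z : F} (h : g ^ r = z • (1 : End F V)) :
    LinearMap.det g ^ r = z ^ finrank F V := by
  rw [← map_pow, h, LinearMap.det_smul, map_one, mul_one]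

theorem det_eq_one_of_rev (hr : Odd r) (h : g ^ r = 1) (h' : (ed g).map rev = ed g) :
    LinearMap.det g = 1 := by
  obtain ⟨k, rfl⟩ := hr
  have h1 : g * g ^ (2 * k) = 1 := by rw [← pow_succ', h]
  have h2 := (sim_of_ed_eq ((ed_inv h1).trans h')).det
  have h3 := congrArg LinearMap.det h1
  have h4 := congrArg LinearMap.det h
  rw [map_mul, h2, map_one] at h3
  rwa [map_pow, pow_succ, pow_mul, sq, h3, one_pow, one_mul, map_one] at h4

theorem dual_pow_sub_C (σ : F →+* F) {z : F} (hz : σ z * z = 1) (hr : r ≠ 0) :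
    dual σ (X ^ r - C z) = X ^ r - C z := by
  have h0 : σ z ≠ 0 := left_ne_zero_of_mul_eq_one hz
  have h1 : (X ^ r - C (σ z)).reverse = 1 - C (σ z) * X ^ r := by
    rw [reverse, natDegree_X_pow_sub_C, sub_eq_add_neg, ← C_neg, reflect_add, reflect_C,
      reflect_monomial]
    simp [sub_eq_add_neg]
  rw [dual, Polynomial.map_sub, Polynomial.map_pow, map_X, map_C, rev, h1]
  simp only [coeff_sub, coeff_X_pow, hr.symm, if_false, coeff_C_zero, zero_sub]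
  rw [inv_neg, ← eq_inv_of_mul_eq_one_right hz, C_neg]
  linear_combination X ^ r * ((C_mul.symm.trans (congrArg C hz)).trans C_1)

theorem PP.cases {σ : F →+* F} {Φ : Form σ V} (hΦ : Φ.Nondeg) (hg : Pres Φ g) (H : PP Φ g) :
    (∃ s, ed g = s + s.map (dual σ)) ∨ ∀ c, 2 * kd g (X - C c) ≤ finrank F V := by
  obtain ⟨A, B, h1, h2, h3, ⟨h4, h5⟩ | ⟨h4, h5⟩⟩ := H
  · exact Or.inl
      ⟨_, ed_of_polar hΦ hg (map_le_iff_inv.1 h4.le) (map_le_iff_inv.1 h5.le) h1 h2.1 h3.1⟩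
  refine Or.inr fun c => ?_
  have key : ∀ {A B : Submodule F V}, Disjoint A B → A.map g = B →
      kd g (X - C c) + finrank F A ≤ finrank F V := fun {A B} h6 h7 =>
    Submodule.finrank_add_finrank_le_of_disjoint (Submodule.disjoint_def.2 fun x h8 hx => by
      have h9 : g x = c • x := by simpa [sub_eq_zero, Algebra.algebraMap_eq_smul_one] using h8
      exact hg.inj hΦ ((Submodule.disjoint_def.1 h6 _ (h9 ▸ A.smul_mem c hx)
        (h7 ▸ ⟨x, hx, rfl⟩)).trans g.map_zero.symm))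
  have := key h1.disjoint h4
  have := key h1.disjoint.symm h5
  have := Submodule.finrank_add_eq_of_isCompl h1
  omega

end Scal

section Herm

variable {F : Type u} {V : Type*} [Field F] [Fintype F] [AddCommGroup V] [Module F V]
  [FiniteDimensional F V] {q : ℕ} (hF : Fintype.card F = q ^ 2) {Φ : Form (conj hF) V}
  {g : End F V} {s : Multiset F[X]} {r n : ℕ}

theorem rs_herm (hs : ∀ p ∈ s, IsPP p) (h0 : ∀ p ∈ s, p.coeff 0 ≠ 0)
    (h : s.map (dual (conj hF)) = s) : RS (conj hF) 1 0 s := by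
  obtain ⟨x, hx⟩ := exists_GU_edM hF hs h0 rfl h
  exact ⟨_, huForm hF _, toLin' x.1.1, huForm_nondeg hF _, rfl, rfl,
    ⟨((mem_GU_iff hF).1 x.2).1, fun _ => rfl⟩, hx⟩

variable {hF}

theorem exists_herm (hΦ : Φ.Nondeg) (hε : Φ.ε = 1) (hs : ∀ p ∈ s, IsPP p)
    (h0 : ∀ p ∈ s, p.coeff 0 ≠ 0) (h : s.map (dual (conj hF)) = s)
    (hd : (s.map natDegree).sum = finrank F V) : ∃ g, Pres Φ g ∧ ed g = s :=
  RS.exists_herm (conj_ne_id hF) hΦ
    (by rw [hε, kappa_of_ne (conj_ne_id hF)]; exact rs_herm hF hs h0 h) hd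

theorem rs_of_le (hΦ : Φ.Nondeg) (hε : Φ.ε = 1) (hg : Pres Φ g) (h : s ≤ ed g)
    (h' : s.map (dual (conj hF)) = s) : RS (conj hF) Φ.ε Φ.κ s := by
  rw [hε, kappa_of_ne (conj_ne_id hF)]
  exact rs_herm hF (fun p hp => ed_isPP (Multiset.mem_of_le h hp))
    (fun p hp => ed_coeff_ne hΦ hg p (Multiset.mem_of_le h hp)) h'

theorem herm_nd (hΦ : Φ.Nondeg) (hε : Φ.ε = 1) (hg : Pres Φ g) (h : s ≤ ed g)
    (h' : s.map (dual (conj hF)) = s) : ∃ A : Submodule F V, finrank F A = (s.map natDegree).sum ∧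
      (Φ.restrict A).Nondeg ∧ ∀ x ∈ A, g x ∈ A := by
  obtain ⟨t, ht⟩ := Multiset.le_iff_exists_add.1 h
  have h1 := ed_dual_of_B hΦ hg.B
  rw [ht, Multiset.map_add, h'] at h1
  obtain ⟨A, hA, h2, h3⟩ := (uq_herm (conj_ne_id hF) hΦ hg).exists_nondeg (rs_of_le hΦ hε hg h h')
    (rs_of_le hΦ hε hg (ht ▸ Multiset.le_add_left _ _) (add_left_cancel h1)) ht
  exact ⟨A, by rw [finrank_eq_sum_ed hA, h3], h2, hA⟩

theorem herm_ts (hΦ : Φ.Nondeg) (hε : Φ.ε = 1) (hg : Pres Φ g)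
    (h : s + s.map (dual (conj hF)) ≤ ed g) : ∃ A : Submodule F V,
      finrank F A = (s.map natDegree).sum ∧ Φ.TotSing A ∧ ∀ x ∈ A, g x ∈ A := by
  obtain ⟨t, ht⟩ := Multiset.le_iff_exists_add.1 h
  have h0 : ∀ p ∈ s, p ∈ ed g := fun p hp => by simp [ht, hp]
  have h1 := ed_dual_of_B hΦ hg.B
  rw [ht, Multiset.map_add, (rs_hyp Φ (fun p hp => ed_isPP (h0 p hp))
    fun p hp => ed_coeff_ne hΦ hg p (h0 p hp)).dual_eq] at h1
  obtain ⟨A, -, hA, -, h2, -, -, h3, -⟩ := (uq_herm (conj_ne_id hF) hΦ hg).exists_ts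
    (fun p hp => ed_isPP (h0 p hp)) (fun p hp => ed_coeff_ne hΦ hg p (h0 p hp))
    (rs_of_le hΦ hε hg (ht ▸ Multiset.le_add_left _ _) (add_left_cancel h1)) ht
  exact ⟨A, by rw [finrank_eq_sum_ed hA, h3], h2, hA⟩

theorem det_norm (hΦ : Φ.Nondeg) (hg : Pres Φ g) : LinearMap.det g ^ (q + 1) = 1 :=
 by
  simpa [coe_detO, Pres.toO_coe] using
    congrArg Units.val (MonoidHom.mem_ker.1 (detO_mem_ker_pow hF hΦ (hg.toO hΦ)))

omit [FiniteDimensional F V] in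
theorem pres_smul_herm (hg : Pres Φ g) {c : F} (hc : c ^ (q + 1) = 1) : Pres Φ (c • g) :=
  ⟨fun x y => by
    simp only [LinearMap.smul_apply, map_smul, LinearMap.map_smulₛₗ₂, smul_eq_mul, hg.B]
    rw [← mul_assoc, mul_comm c, conj_mul_self, hc, one_mul], fun x => by
      rw [H22.Q_eq_zero_of_κ _ (kappa_of_ne (conj_ne_id hF)),
        H22.Q_eq_zero_of_κ _ (kappa_of_ne (conj_ne_id hF))]⟩

omit [FiniteDimensional F V] in
theorem herm_scalar [Nontrivial V] (hΦ : Φ.Nondeg) (hg : Pres Φ g) {z : F}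
    (h : g ^ r = z • (1 : End F V)) : z ^ (q + 1) = 1 :=
  (conj_mul_self hF z).symm.trans (scalar_norm hΦ (h ▸ pres_pow hg r))

omit [Field F] in
variable (hF) in
include hF in
theorem card_sub_one : Fintype.card F - 1 = (q + 1) * (q - 1) := by
  rw [hF, ← Nat.sq_sub_sq, one_pow]

variable (hF) in
include hF in
theorem norm_cases (hr : r.Prime) {z : F} (hz : z ^ (q + 1) = 1) :
    (∃ c : F, c ^ (q + 1) = 1 ∧ c ^ r = z) ∨ (r ≠ 2 ∧ r ∣ q + 1 ∧ ∀ b, b ^ r ≠ z) ∨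
      (r = 2 ∧ (2 : F) ≠ 0 ∧ ∃ c : F, c ^ (q + 1) = -1 ∧ c ^ 2 = z) := by
  have hq := two_le_of_card_eq_sq hF
  have hz0 : z ≠ 0 := by rintro rfl; simp at hz
  by_cases h : r ∣ q + 1
  swap
  · obtain ⟨m, -, hm⟩ := Nat.exists_mul_mod_eq_one_of_coprime
      ((Nat.Prime.coprime_iff_not_dvd hr).2 h) (show 1 < q + 1 by omega)
    refine Or.inl ⟨z ^ m, by rw [← pow_mul, mul_comm, pow_mul, hz, one_pow], ?_⟩
    rw [← pow_mul, mul_comm, ← Nat.div_add_mod (r * m) (q + 1), hm, pow_succ, pow_mul, hz]; simp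
  by_cases h2 : r = 2
  · subst h2
    obtain ⟨t, ht⟩ : 2 ∣ q - 1 := by omega
    obtain ⟨c, -, hc⟩ := (exists_pow_eq_iff hz0 2).2 (by
      rw [card_sub_one hF, ht, Nat.gcd_eq_right (by simp [dvd_mul_of_dvd_left h]), mul_left_comm,
        Nat.mul_div_cancel_left _ two_pos]
      exact (orderOf_dvd_of_pow_eq_one hz).mul_right _)
    have h3 : c ^ (q + 1) * c ^ (q + 1) = 1 := by rw [← mul_pow, ← sq, hc, hz]
    refine (mul_self_eq_one_iff.1 h3).imp (fun h => ⟨c, h, hc⟩) fun h4 =>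
      Or.inr ⟨rfl, two_ne_zero_of_odd_card ?_, c, h4, hc⟩
    rw [hF]; exact Odd.pow (Nat.odd_iff.2 (by omega))
  by_cases h3 : ∃ b, b ^ r = z
  swap
  · exact Or.inr (Or.inl ⟨h2, h, by simpa using h3⟩)
  obtain ⟨c, rfl⟩ := h3
  have h4 : (c ^ (q + 1)) ^ (q - 1) = 1 := by
    rw [← pow_mul, ← card_sub_one hF]
    exact FiniteField.pow_card_sub_one_eq_one c fun h => hz0 (by simp [h, hr.ne_zero])
  have h5 : r.Coprime (q - 1) := (Nat.Prime.coprime_iff_not_dvd hr).2 fun h6 =>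
    h2 ((Nat.prime_dvd_prime_iff_eq hr Nat.prime_two).1
      ((show q + 1 - (q - 1) = 2 by omega) ▸ Nat.dvd_sub h h6))
  exact Or.inl ⟨c, eq_one_of_coprime h5 (by rw [← pow_mul, mul_comm, pow_mul, hz]) h4, rfl⟩

variable (hF) in
include hF in
theorem exists_nonsplit_norm_iff [hr : Fact r.Prime] (hr2 : r ≠ 2) (h : r ∣ q + 1) {k : ℕ}
    (hk : k ≠ 0) : (∃ z : F, z ^ (q + 1) = 1 ∧ z ^ k = 1 ∧ ∀ b, b ^ r ≠ z) ↔
      padicValNat r (q + 1) ≤ padicValNat r k := by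
  have hq := two_le_of_card_eq_sq hF
  have h1 : padicValNat r (Fintype.card F - 1) = padicValNat r (q + 1) := by
    rw [card_sub_one hF, padicValNat.mul (by omega) (by omega),
      padicValNat.eq_zero_of_not_dvd (n := q - 1) fun h6 => hr2 ((Nat.prime_dvd_prime_iff_eq hr.out
        Nat.prime_two).1 ((show q + 1 - (q - 1) = 2 by omega) ▸ Nat.dvd_sub h h6)), add_zero]
  refine ⟨fun ⟨z, _, h2, h3⟩ => not_lt.1 fun h4 => ?_, fun h2 => ?_⟩
  · obtain ⟨b, hb⟩ := exists_pow_eq_of_pow_eq_one (r := r) hk h2 (h1 ▸ h4)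
    exact h3 b hb
  obtain ⟨w, hw0, hw⟩ := exists_orderOf_eq (F := F)
    (pow_padicValNat_dvd (p := r) (n := Fintype.card F - 1))
  refine ⟨w, orderOf_dvd_iff_pow_eq_one.1 (hw ▸ h1 ▸ pow_padicValNat_dvd),
    orderOf_dvd_iff_pow_eq_one.1 (hw ▸ h1 ▸ (pow_dvd_pow _ h2).trans pow_padicValNat_dvd),
    fun c hc => ?_⟩
  have h5 := (exists_pow_eq_iff_prime hw0 hw hr.out.ne_zero).1 ⟨c, fun h0 => hw0 (by
    rw [← hc, h0, zero_pow hr.out.ne_zero]), hc⟩
  have := one_le_padicValNat_of_dvd (by omega) h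
  rw [padicValNat_self] at h5
  omega

variable (hF) in
include hF in
theorem exists_norm_neg_iff (hq : Odd q) (hn : n ≠ 0) :
    (∃ c : F, c ^ (q + 1) = 1 ∧ c ^ n = -1) ↔ padicValNat 2 n < padicValNat 2 (q + 1) := by
  refine ⟨fun ⟨c, h1, h2⟩ => val_lt_of_pow_eq_neg_one (two_ne_zero_of_odd_card (hF ▸ hq.pow)) hn
    (by omega) h2 h1, fun h => ?_⟩
  have h1 := (padicValNat_dvd_iff_le (p := 2) (show q + 1 ≠ 0 by omega)).2 h
  obtain ⟨c, h2, h3⟩ := exists_pow_eq_neg_one (F := F) hn (card_sub_one hF ▸ h1.mul_right _)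
  obtain ⟨t, ht⟩ := h1
  exact ⟨c, by rw [ht, pow_mul, h2, one_pow], h3⟩

variable (hF) in
include hF in
theorem exists_norm_neg_sq_iff (hq : Odd q) {k : ℕ} (hk : k ≠ 0) :
    (∃ c : F, c ^ (q + 1) = -1 ∧ c ^ k * (-c) ^ k = 1) ↔
      q % 4 = 1 ∨ padicValNat 2 (q + 1) < padicValNat 2 (2 * k) := by
  have h2 : (2 : F) ≠ 0 := two_ne_zero_of_odd_card (hF ▸ hq.pow)
  have hq' := Nat.odd_iff.1 hq
  have h3 : padicValNat 2 (2 * k) = padicValNat 2 k + 1 := by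
    rw [padicValNat.mul two_ne_zero hk, padicValNat_self, add_comm]
  have h4 : ∀ c : F, Even k → c ^ k * (-c) ^ k = c ^ (2 * k) := fun c h => by
    rw [h.neg_pow, two_mul, pow_add]
  constructor
  · rintro ⟨c, h5, h6⟩
    refine or_iff_not_imp_left.2 fun h7 => val_lt_of_pow_eq_neg_one h2 (by omega) (by omega) h5 ?_
    have h8 := val_lt_of_pow_eq_neg_one h2 (by omega) (k := 2 * (2 * k)) (by omega) h5 (by
      have : c ^ (2 * (2 * k)) = (c ^ k * (-c) ^ k) ^ 2 := by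
        rw [mul_pow, ← pow_mul, ← pow_mul, (show Even (k * 2) by simp).neg_pow]; ring
      rw [this, h6, one_pow])
    have h9 := (padicValNat_dvd_iff_le (p := 2) (n := 2) (show q + 1 ≠ 0 by omega)).1 (by omega)
    rw [padicValNat.mul two_ne_zero (by omega), padicValNat_self, h3] at h8
    rw [← h4 c (even_iff_two_dvd.2 (dvd_of_one_le_padicValNat (by omega))), h6]
  obtain ⟨c, h5, h6⟩ := exists_pow_eq_neg_one (F := F) (show q + 1 ≠ 0 by omega) (by
    rw [card_sub_one hF, pow_succ]; exact mul_dvd_mul pow_padicValNat_dvd (by omega))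
  have h7 := one_le_padicValNat_of_dvd (p := 2) (show q + 1 ≠ 0 by omega) (by omega)
  rintro (h | h)
  · have h8 : padicValNat 2 (q + 1) = 1 := le_antisymm (not_lt.1 fun h8 => by
      have := (padicValNat_dvd_iff_le (p := 2) (n := 2) (show q + 1 ≠ 0 by omega)).2 h8
      omega) h7
    rw [h8] at h5
    obtain ⟨t, ht⟩ : ∃ t, q + 1 = 2 ^ (1 + 1) * t + 2 := ⟨q / 4, by omega⟩
    refine ⟨c, h6, ?_⟩
    rw [ht, pow_add, pow_mul, h5, one_pow, one_mul] at h6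
    rw [← mul_pow, mul_neg, ← sq, h6]; simp
  · obtain ⟨t, ht⟩ := (padicValNat_dvd_iff_le (p := 2) (show 2 * k ≠ 0 by omega)).2 h
    exact ⟨c, h6, by rw [h4 c (even_iff_two_dvd.2 (dvd_of_one_le_padicValNat (by omega))), ht,
      pow_mul, h5, one_pow]⟩

theorem herm_forall_coprime [Nontrivial V] (hΦ : Φ.Nondeg) (hr : r.Prime) (h : ¬ r ∣ q + 1)
    (P : End F V → Prop) (hP : ∀ (c : F) g, c ≠ 0 → P (c • g) → P g) :
    (∀ g, Pres Φ g ∧ LinearMap.det g = 1 → (∃ z : F, g ^ r = z • (1 : End F V)) →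
      (∀ z : F, g ≠ z • (1 : End F V)) → P g) ↔ ∀ g, Pres Φ g → g ^ r = 1 → g ≠ 1 → P g := by
  have h1 : ∀ c : F, c ^ r = 1 → c ^ (q + 1) = 1 → c = 1 := fun c =>
    eq_one_of_coprime ((Nat.Prime.coprime_iff_not_dvd hr).2 h)
  constructor
  · intro H g hg h2 h3
    refine H g ⟨hg, h1 _ (by rw [← map_pow, h2, map_one]) (det_norm hΦ hg)⟩
      ⟨1, by rw [h2, one_smul]⟩ ?_
    rintro z rfl
    rw [_root_.smul_pow, one_pow] at h2
    rw [h1 z (smul_left_injective F one_ne_zero (h2.trans (one_smul _ _).symm))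
      (herm_scalar (r := 1) hΦ hg (pow_one _)), one_smul] at h3
    exact h3 rfl
  · rintro H g ⟨hg, -⟩ ⟨z, hz⟩ h3
    obtain ⟨c, h4, rfl⟩ | ⟨-, h4, -⟩ | ⟨rfl, h4, -⟩ := norm_cases hF hr (herm_scalar hΦ hg hz)
    · have hc : c ≠ 0 := by rintro rfl; simp at h4
      refine hP c⁻¹ g (inv_ne_zero hc) (H _ (pres_smul_herm hg (by rw [inv_pow, h4, inv_one])) ?_
        fun h5 => h3 c ?_)
      · rw [_root_.smul_pow, hz, smul_smul, ← mul_pow, inv_mul_cancel₀ hc, one_pow, one_smul]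
      · rw [← h5, smul_inv_smul₀ hc]
    · exact absurd h4 h
    · have := odd_card_of_two_ne_zero h4
      rw [hF, ← Nat.odd_iff, Nat.odd_pow_iff two_ne_zero, Nat.odd_iff] at this
      omega

theorem herm_sq_cases [Nontrivial V] (h2 : (2 : F) ≠ 0) (hΦ : Φ.Nondeg) (hg : Pres Φ g) {z : F}
    (h : g ^ 2 = z • (1 : End F V)) : ∃ (c : F) (a b : ℕ), a + b = finrank F V ∧
      ed g = Multiset.replicate a (X - C c) + Multiset.replicate b (X - C (-c)) ∧
      (c ^ (q + 1) = 1 ∨ (c ^ (q + 1) = -1 ∧ a = b)) := by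
  classical
  have h1 := herm_scalar hΦ hg h
  have h3 := ss_of_pow h2 (by rintro rfl; simp at h1) h
  obtain ⟨c, h4, rfl⟩ : ∃ c : F, (c ^ (q + 1) = 1 ∨ c ^ (q + 1) = -1) ∧ c ^ 2 = z := by
    obtain ⟨c, h4, h5⟩ | ⟨h4, -⟩ | ⟨-, -, c, h4, h5⟩ := norm_cases hF Nat.prime_two h1
    exacts [⟨c, Or.inl h4, h5⟩, absurd rfl h4, ⟨c, Or.inr h4, h5⟩]
  obtain ⟨a, b, h5⟩ := exists_rep_of_mem' (mem_ed_sq h h3)
  refine ⟨c, a, b, by simpa [h5, -map_neg] using sum_natDegree_ed g, h5, h4.imp_right fun h4 =>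
    ⟨h4, ?_⟩⟩
  have hc : c ≠ 0 := by rintro rfl; simp at h4
  have h6 : (c ^ q)⁻¹ = -c := inv_eq_of_mul_eq_one_right (by rw [mul_neg, ← pow_succ, h4, neg_neg])
  have h7 := ed_dual_of_B hΦ hg.B
  rw [h5, Multiset.map_add, Multiset.map_replicate, Multiset.map_replicate, dual_X_sub_C _ hc,
    dual_X_sub_C _ (neg_ne_zero.2 hc), map_neg, inv_neg, conj_apply, h6, neg_neg] at h7
  have := congrArg (Multiset.count (X - C c)) h7
  simp only [Multiset.count_add, Multiset.count_replicate, if_neg (lin_ne_neg h2 hc).symm,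
    if_true] at this
  omega

theorem conj_dual_iff (hr : r.Prime) (hr2 : r ≠ 2) (hr0 : (r : F) ≠ 0) {a : F[X]}
    (ha : a ∈ Tr F r) : dual (conj hF) a = a ↔ orderOf (q : ZMod r) % 4 = 2 := by
  obtain ⟨p, k, hp, _, -, hk⟩ := exists_pow_of_card_eq_sq hF
  have := Fact.mk hp
  have := Fact.mk hr
  have h0 := orderOf_card_pos hr hr0
  rw [hF, Nat.cast_pow, orderOf_pos_iff, isOfFinOrder_pow, ← orderOf_pos_iff] at h0
  rw [dual_eq_self_iff (conj_conj hF) (p := p) (k := k) (fun a => hk ▸ rfl) ha.1 ha.2.1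
    (Tr_coeff hr ha), ha.2.2, ← hk, hF, exists_dvd_pow_add_iff hr hr2 (by simpa using h0)]

variable (hF) in
theorem Tr_conj_cases (hr : r.Prime) (hr2 : r ≠ 2) (hr0 : (r : F) ≠ 0) {i b c : ℕ}
    (hi : i = orderOf (q : ZMod r)) (hb : b = if Even i then i / 2 else i)
    (hc : c = if i % 4 = 0 then i else if i % 4 = 2 then i / 2 else 2 * i) :
    b = orderOf (Fintype.card F : ZMod r) ∧ ∃ l, c = l * b ∧ (l = 1 ↔ i % 4 = 2) ∧
      ((l = 1 ∧ ∀ a ∈ Tr F r, dual (conj hF) a = a) ∨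
        (l = 2 ∧ ∀ a ∈ Tr F r, dual (conj hF) a ≠ a)) := by
  refine ⟨?_, ?_⟩
  · rw [hF, Nat.cast_pow, orderOf_pow' _ two_ne_zero, ← hi, hb]
    split_ifs with h
    · rw [Nat.gcd_eq_right h.two_dvd]
    · rw [Nat.coprime_two_right.2 (Nat.not_even_iff_odd.1 h), Nat.div_one]
  simp only [Nat.even_iff] at hb
  by_cases h : i % 4 = 2
  · exact ⟨1, by split_ifs at hb hc <;> omega, by simp [h],
      Or.inl ⟨rfl, fun a ha => (conj_dual_iff hr hr2 hr0 ha).2 (hi ▸ h)⟩⟩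
  · exact ⟨2, by split_ifs at hb hc <;> omega, by simp [h],
      Or.inr ⟨rfl, fun a ha h' => h (hi ▸ (conj_dual_iff hr hr2 hr0 ha).1 h')⟩⟩

theorem exists_herm_Tr (hΦ : Φ.Nondeg) (hε : Φ.ε = 1) (hr : r.Prime) (hr0 : (r : F) ≠ 0)
    (hs : ∀ a ∈ s, a ∈ Tr F r) (h : s.map (dual (conj hF)) = s) {k : ℕ}
    (hd : s.card * orderOf (Fintype.card F : ZMod r) + k = finrank F V) :
    ∃ g, Pres Φ g ∧ ed g = s + Multiset.replicate k (X - C 1) :=
  exists_herm hΦ hε (fun p hp => (Tr_add_dvd hs p hp).1) (fun p hp => coeff_ne_zero_of_dvd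
    hr.ne_zero one_ne_zero (by simpa using (Tr_add_dvd hs p hp).2))
    (by rw [Multiset.map_add, h, Multiset.map_replicate, dual_lin_one])
    (by rw [sum_deg_add hr hr0 hs, hd])

/-- The order of `GU_n(q)` without the power of `q`. -/
def uf (q n : ℕ) : ℕ :=
  ∏ i ∈ Finset.range n, (if Even i then q ^ (i + 1) + 1 else q ^ (i + 1) - 1)

theorem uf_pos (hq : 1 < q) (n : ℕ) : 0 < uf q n := Finset.prod_pos fun i _ => by
  have := Nat.one_lt_pow (n := i + 1) (by omega) hq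
  split_ifs <;> omega

theorem not_dvd_uf {p : ℕ} (hp : p.Prime) (h : p ∣ q) (hq : 0 < q) (n : ℕ) : ¬ p ∣ uf q n := by
  rw [uf, hp.prime.dvd_finsetProd_iff]
  rintro ⟨i, -, hi⟩
  have h1 : p ∣ q ^ (i + 1) := h.pow (by omega)
  split_ifs at hi
  · exact hp.one_lt.ne' (Nat.dvd_one.1 ((Nat.dvd_add_right h1).1 hi))
  · exact hp.one_lt.ne' (Nat.dvd_one.1 ((Nat.dvd_sub_iff_right (Nat.one_le_pow _ _ hq) h1).1 hi))

theorem exists_c_dvd (hr : r.Prime) (hr2 : r ≠ 2) (hq : 1 < q) {i c a b C X N : ℕ}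
    (hi : i = orderOf (q : ZMod r))
    (hc : c = if i % 4 = 0 then i else if i % 4 = 2 then i / 2 else 2 * i) (h : r ∣ C)
    (hN : r.Coprime N) (e : C * (X * uf q b) = N * uf q (b + a)) :
    ∃ j, b < j ∧ j ≤ b + a ∧ c ∣ j := by
  have := Fact.mk hr
  rw [uf, uf, Finset.prod_range_add, mul_comm (∏ _ ∈ _, _), ← mul_assoc, ← mul_assoc] at e
  obtain ⟨j, h1, h2⟩ := (hr.prime.dvd_finsetProd_iff _).1 (hN.dvd_of_dvd_mul_left
    (Nat.eq_of_mul_eq_mul_right (uf_pos hq b) e ▸ h.mul_right X))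
  refine ⟨b + j + 1, by omega, by have := Finset.mem_range.1 h1; omega, ?_⟩
  generalize b + j = k at h2
  split_ifs at h2 with h3
  · obtain ⟨⟨t, ht⟩, h5⟩ := dvd_of_pow_eq_neg_one (x := (q : ZMod r)) (m := k + 1) hr2 (by
      simpa [eq_neg_iff_add_eq_zero] using (ZMod.natCast_eq_zero_iff _ _).2 h2)
    rw [← hi] at ht h5
    obtain ⟨u, rfl⟩ : 2 ∣ i := by
      by_contra h6
      exact h5 ((Nat.coprime_two_right.2 (Nat.odd_iff.2 (by omega))).dvd_of_dvd_mul_left ⟨t, ht⟩)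
    have h6 : k + 1 = u * t := by linarith
    have := Nat.odd_iff.1 (Nat.odd_mul.1 (h6 ▸ h3.add_one)).1
    rw [hc, if_neg (by omega), if_pos (by omega)]
    exact ⟨t, by simpa using h6⟩
  · have h4 : i ∣ k + 1 := hi ▸ (orderOf_zmod_dvd_iff (by omega) _).2 h2
    split_ifs at hc with h5 h6
    · exact hc ▸ h4
    · exact hc ▸ (Nat.div_dvd_of_dvd (by omega)).trans h4
    · exact hc ▸ (Nat.coprime_two_left.2 (Nat.odd_iff.2 (by omega))).mul_dvd_of_dvd_of_dvd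
        (even_iff_two_dvd.1 (Nat.not_even_iff_odd.1 h3).add_one) h4

theorem ex_two_mul (a : ℕ) : 2 * (a * (a - 1) / 2) + a = a * a := by
  rw [Nat.mul_div_cancel' (even_iff_two_dvd.1 (Nat.even_mul_pred_self a))]
  rcases a with _ | a
  · rfl
  · rw [Nat.add_sub_cancel]; ring

theorem card_nd_herm (hΦ : Φ.Nondeg) (hε : Φ.ε = 1) {m e : ℕ} (hV : finrank F V = e + m) :
    Nat.card {U : Submodule F V // finrank F U = m ∧ (Φ.restrict U).Nondeg} * (uf q m * uf q e) =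
      q ^ (e * m) * uf q (e + m) := by
  have hκ : Φ.κ = 0 := kappa_of_ne (conj_ne_id hF)
  obtain ⟨W, hm, hW, -⟩ := herm_nd hΦ hε (pres_one Φ) (s := Multiset.replicate m (X - C 1))
    (by rw [ed_one]; exact (Multiset.replicate_le_replicate _).2 (by omega))
    (by rw [Multiset.map_replicate, dual_lin_one])
  replace hm : finrank F W = m := by simpa [-map_one] using hm
  have h3 := card_nd_mul hΦ hW (fun U => finrank F U = m ∧ (Φ.restrict U).Nondeg) fun U =>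
    ⟨fun h => iso_herm (conj_ne_id hF) hW h.2 rfl (pres_one _) (pres_one _)
      (by rw [ed_one, ed_one, hm, h.1]), fun h => ⟨h.sim.finrank_eq.symm.trans hm, h.nondeg hW⟩⟩
  rw [H22.card_O_herm hF _ Φ hΦ hε hκ hV, H22.card_O_herm hF _ _ hW hε hκ hm, H22.card_O_herm hF e _
    (hΦ.nondeg_restrict_perp (Φ.nondeg_restrict_iff.1 hW)) hε hκ (by
      rw [hΦ.finrank_perp]; omega), show (e + m) * (e + m - 1) / 2 = m * (m - 1) / 2 +
        e * (e - 1) / 2 + e * m by nlinarith [ex_two_mul e, ex_two_mul m, ex_two_mul (e + m)]] at h3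
  refine Nat.eq_of_mul_eq_mul_left (pow_pos (show 0 < q by have := two_le_of_card_eq_sq hF; omega)
    (m * (m - 1) / 2 + e * (e - 1) / 2)) ?_
  rw [← mul_assoc _ (_ ^ (e * m)), ← pow_add, uf, uf, uf, ← h3]
  ring

theorem card_ts_herm (hΦ : Φ.Nondeg) (hε : Φ.ε = 1) {m e : ℕ} (hV : finrank F V = e + 2 * m) :
    Nat.card {U : Submodule F V // finrank F U = m ∧ Φ.TotSing U} * (qf (q ^ 2) m * uf q e) =
      1 * uf q (e + 2 * m) := by
  have hκ : Φ.κ = 0 := kappa_of_ne (conj_ne_id hF)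
  obtain ⟨W, hm, hW, -⟩ := herm_ts hΦ hε (pres_one Φ) (s := Multiset.replicate m (X - C 1)) (by
    rw [ed_one, Multiset.map_replicate, dual_lin_one, ← Multiset.replicate_add]
    exact (Multiset.replicate_le_replicate _).2 (by omega))
  obtain ⟨D, -, h1, h2, h3⟩ := card_ts_mul hΦ hW (k := m) (d := e) (by simpa [-map_one] using hm)
    (by omega)
  have h4 : m * (m - 1) + m = m * m := by rcases m with _ | m <;> simp [mul_add]
  rw [H22.card_O_herm hF _ Φ hΦ hε hκ hV, H22.card_O_herm hF _ _ h1 hε hκ h2, H22.tr_herm hF Φ hε hκ,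
    hF, show (e + 2 * m) * (e + 2 * m - 1) / 2 = 2 * (m * e + m * (m - 1)) + m + e * (e - 1) / 2 by
      nlinarith [ex_two_mul e, ex_two_mul (e + 2 * m)]] at h3
  refine Nat.eq_of_mul_eq_mul_left (pow_pos (show 0 < q by have := two_le_of_card_eq_sq hF; omega)
    (2 * (m * e + m * (m - 1)) + m + e * (e - 1) / 2)) ?_
  rw [one_mul, uf, uf, ← h3]
  ring

variable (hF)

theorem herm_nd_iff {W : Submodule F (Fin n → F)} : (∀ u ∈ W, u ≠ 0 → ∃ v ∈ W,
    Cfsg.hermForm n F q u v ≠ 0) ↔ ((huForm hF n).restrict W).Nondeg := by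
  rw [nondeg_restrict_iff']
  refine forall₃_congr fun u _ _ => exists_congr fun v => and_congr_right fun _ => not_congr ?_
  exact ⟨fun h => (huForm hF n).B_eq_zero_symm h, fun h => (huForm hF n).B_eq_zero_symm h⟩

theorem herm_ts_iff {W : Submodule F (Fin n → F)} : (∀ u ∈ W, ∀ v ∈ W,
    Cfsg.hermForm n F q u v = 0) ↔ (huForm hF n).TotSing W :=
  ⟨fun h => ⟨fun u hu v hv => h v hv u hu, fun _ _ => rfl⟩, fun h u hu v hv => h.1 v hv u hu⟩

theorem mem_GU_pres (x : GL (Fin n) F) : x ∈ Cfsg.GU n F q ↔ Pres (huForm hF n) (toLin' x.1) :=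
  (mem_GU_iff hF).trans ⟨fun h => ⟨h.1, h.2⟩, fun h => ⟨h.B, h.Q⟩⟩

theorem su_forall_iff (P : End F (Fin n → F) → Prop) :
    (∀ x : SpecialLinearGroup (Fin n) F, x ∈ Cfsg.SU n F q →
      (∃ z : F, (x ^ r).1 = z • (1 : Matrix _ _ F)) →
      (∀ z : F, x.1 ≠ z • (1 : Matrix _ _ F)) → P (toLin' x.1)) ↔
    ∀ g, Pres (huForm hF n) g ∧ LinearMap.det g = 1 → (∃ z : F, g ^ r = z • (1 : End F _)) →
      (∀ z : F, g ≠ z • (1 : End F _)) → P g := by
  have h1 : ∀ x : SpecialLinearGroup (Fin n) F, toLin' (x ^ r).1 = toLin' x.1 ^ r := fun x =>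
    toLin'_pow _ _
  simp only [ne_eq, ← toLin'_eq_smul_iff, h1]
  refine ⟨fun h g hg => ?_, fun h x hx => h _ ⟨⟨fun u v => by simpa using hx v u, fun _ => rfl⟩,
    by simp⟩⟩
  obtain ⟨A, rfl⟩ := toLin'.surjective g
  exact h ⟨A, by simpa using hg.2⟩ fun u v => hg.1.B v u

end Herm

end H16
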