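import Cfsg.Agent.H16.S10c

/-! Bender-Glauberman section 10 (see `S10a`, `S10b`, `S10c`). -/
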