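import Cfsg.Agent.H16.S12d

/-! Bender-Glauberman section 12 (see `S12a` - `S12d`). -/
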