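import Cfsg.Agent.Lead.Fl0

set_option autoImplicit false
set_option linter.unusedSectionVars false

open Subgroup Cfsg H16 H16.H11 Module Lead.Fl Lead.Qf

namespace H16.ZS

variable {p : ℕ} [hp : Fact p.Prime] {M : Type*} [AddCommGroup M] [Module (ZMod p) M] [Finite M]
  {Γ G H K S : Subgroup (GLm (ZMod p) M)} {q s t w : End (ZMod p) M}

theorem unip_pgroup (hS : IsPGroup p S) : IsUnipotentOn S := unip_of fun W hW h => by
  by_contra hne
  let r : S →* End (ZMod p) W :=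
    { toFun := fun g => (g.1.1 : End (ZMod p) M).restrict (hW g g.2)
      map_one' := by ext; rfl
      map_mul' := fun a b => by ext; rfl }
  letI : MulAction S (Dual (ZMod p) W) :=
    { smul := fun g φ => φ ∘ₗ r g⁻¹
      one_smul := fun φ => by change φ ∘ₗ r 1⁻¹ = φ; rw [inv_one, map_one]; rfl
      mul_smul := fun a b φ => by
        change φ ∘ₗ r (a * b)⁻¹ = (φ ∘ₗ r b⁻¹) ∘ₗ r a⁻¹
        rw [mul_inv_rev, map_mul]; rfl }
  have : Finite (Dual (ZMod p) W) := Finite.of_injective _ DFunLike.coe_injective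
  have hc : p ∣ Nat.card (Dual (ZMod p) W) := by
    rw [Module.natCard_eq_pow_finrank (K := ZMod p), Nat.card_zmod, Subspace.dual_finrank_eq]
    exact dvd_pow_self _ fun e => hne (Submodule.finrank_eq_zero.1 e)
  obtain ⟨φ, hφ, h0⟩ := hS.exists_fixed_point_of_prime_dvd_card_of_fixed_point _ hc
    (a := 0) fun g => LinearMap.zero_comp _
  refine h0 (LinearMap.ext fun x => ?_).symm
  have : cs W S ≤ (LinearMap.ker φ).map W.subtype := cs_le.2 fun g hg y hy =>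
    ⟨r ⟨g, hg⟩ ⟨y, hy⟩ - ⟨y, hy⟩, by
      have := LinearMap.congr_fun (hφ (⟨g, hg⟩ : S)⁻¹) ⟨y, hy⟩
      change φ (r (⟨g, hg⟩ : S)⁻¹⁻¹ _) = _ at this
      rw [inv_inv] at this
      simp [this], rfl⟩
  obtain ⟨y, hy, e⟩ := this (h x.2)
  rwa [← Subtype.ext (e : y.1 = x.1)]

/-- depth with respect to the lower series -/
def Dp (S : Subgroup (GLm (ZMod p) M)) (i : ℕ) (x : End (ZMod p) M) : Prop :=
  ∀ j, ∀ v ∈ lcs S j, x v ∈ lcs S (j + i)

theorem Dp.mul {i j : ℕ} (h : Dp S i s) (h' : Dp S j t) : Dp S (j + i) (s * t) := fun n v hv => by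
  rw [← add_assoc]; exact h _ _ (h' n v hv)

theorem Dp.mono {i j : ℕ} (h : Dp S i s) (hj : j ≤ i) : Dp S j s := fun n v hv =>
  lcs_anti S (by omega) (h n v hv)

theorem Dp.zero {n : ℕ} (hn : lcs S n = ⊥) (h : Dp S n s) : s = 0 := LinearMap.ext fun v => by
  have := h 0 v trivial
  rwa [zero_add, hn] at this

theorem dp_one {g : GLm (ZMod p) M} (hg : g ∈ S) : Dp S 1 (g.1 - 1) := fun _ _ hv => mem_cs hg hv

theorem Dp.pow (h : Dp S 1 s) (n : ℕ) : Dp S n (s ^ n) := by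
  induction n with
  | zero => exact fun j v hv => hv
  | succ n ih => rw [pow_succ']; exact h.mul ih

theorem zs (h5 : 5 ≤ p) (hK : K ≤ G) (hq : ∀ g ∈ G, g ^ p = 1 → g ∈ K) (hS : IsPiHallOf {p} S K)
    (hs : Mn G s) : ∃ s', Mn G s' ∧ ∀ b ∈ S, (b.1 - 1) * (b.1 - 1) = 0 → b.1 * s' = s' * b.1 := by
  classical
  obtain ⟨n, hn⟩ := unip_iff_lcs.1 (unip_pgroup (H1.IsPiHallOf.isPGroup hS))
  have k2' := Ring.two_ne_zero (k2 h5)
  have hx := ex_mem hs.qs.mem
  have hp1 : ex s hs.qs.1 ^ p = 1 := Units.ext (by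
    rw [Units.val_pow_eq_pow_val, ← sub_add_cancel (ex s hs.qs.1).1 1, ex_val, add_comm,
      one_add_pow hs.qs.1]
    simp)
  obtain ⟨k, hk, hle⟩ := H1.exists_conj_le_sylowOf (zpowers_le.2 (RG_le_K hq hx))
    (IsPGroup.of_card (n := 1) (by
      rw [Nat.card_zpowers, pow_one]; exact orderOf_eq_prime hp1 (ex_ne _ hs.ne))) hS
  have h1 : ∃ x, Mn G x ∧ Dp S 1 x := by
    refine ⟨_, hs.conj (hK hk), ?_⟩
    have := dp_one (hle (smul_mem_pointwise_smul _ _ _ (mem_zpowers _)))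
    convert this using 1
    change _ = k.1 * (ex s hs.qs.1).1 * k⁻¹.1 - 1
    rw [← sub_add_cancel (ex s hs.qs.1).1 1, ex_val, mul_add, add_mul, mul_one, Units.mul_inv,
      add_sub_cancel_right]
  have h2 : ∃ i, ¬ ∃ x, Mn G x ∧ Dp S (i + 2) x :=
    ⟨n, fun ⟨x, a, b⟩ => a.ne ((b.mono (by omega)).zero hn)⟩
  obtain ⟨x, hx, d⟩ : ∃ x, Mn G x ∧ Dp S (Nat.find h2 + 1) x := by
    rcases e : Nat.find h2 with _ | i
    · exact h1
    · exact not_not.1 (Nat.find_min h2 (by omega))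
  have h3 : ∀ y, QS G y → rk y ≤ rk x → Dp S (Nat.find h2 + 2) y → y = 0 := fun y a b c =>
    by_contra fun h0 => Nat.find_spec h2 ⟨y, hx.of_le a h0 b, c⟩
  refine ⟨x, hx, fun b hb hb2 => ?_⟩
  have hQ := qs_of (hK (hS.1 hb)) hb2
  have db := dp_one hb
  generalize e : b.1 - 1 = y at hQ db
  have d1 : Dp S 1 (x * y + y * x) := fun j v hv =>
    add_mem ((d.mul db).mono (by omega) j v hv) ((db.mul d).mono (by omega) j v hv)
  obtain ⟨a1, a2⟩ := hx.qs.br k2' hQ (hx.nil k2' hQ ⟨n, (d1.pow n).zero hn⟩)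
  have a3 : y * (x * y) = 0 := h3 _ a2 ((rk_le' (ker_le_mul _ _)).trans (rk_le (range_mul_le _ _)))
    ((db.mul (d.mul db)).mono (by omega))
  have a4 := h3 _ a1 ((rk_sub _ _).trans (rk_br a3)) fun j v hv =>
    sub_mem (db.mul d j v hv) ((d.mul db).mono (by omega) j v hv)
  rw [← sub_add_cancel b.1 1, e, add_mul, mul_add, sub_eq_zero.1 a4, one_mul, mul_one]

end H16.ZS
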